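import Cfsg.Agent.Lib.SymSylow.Pronormal
import Mathlib

/-!
Pronormality of the subgroups of odd index, abstract parts:
* images of pronormal subgroups;
* a criterion for groups in which `B = N(U)` has the same orbits as `U` on the conjugates of the
  Sylow subgroup `U`.
-/

set_option autoImplicit false

namespace Cfsg.Agent.Lib.SUOddIndex52

variable {G : Type*} [Group G]

/-- Pronormality passes to the image under a surjection. -/
theorem isPronormal_of_comap {G' : Type*} [Group G'] (π : G →* G') (hπ : Function.Surjective π)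
    (H : Subgroup G') (h : Cfsg.IsPronormal (H.comap π)) : Cfsg.IsPronormal H := by
  intro g'
  obtain ⟨g, rfl⟩ := hπ g'
  obtain ⟨x, hx, he⟩ := h g
  have hmap : ∀ y : G, ((H.comap π).map (MulAut.conj y).toMonoidHom).map π =
      H.map (MulAut.conj (π y)).toMonoidHom := by
    intro y
    ext z
    simp only [Subgroup.mem_map, Subgroup.mem_comap, MulEquiv.coe_toMonoidHom, MulAut.conj_apply]
    constructor
    · rintro ⟨_, ⟨w, hw, rfl⟩, rfl⟩
      exact ⟨π w, hw, by simp⟩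
    · rintro ⟨w, hw, rfl⟩
      obtain ⟨v, rfl⟩ := hπ w
      exact ⟨_, ⟨v, hw, rfl⟩, by simp⟩
  refine ⟨π x, ?_, ?_⟩
  · have h1 : π x ∈ ((H.comap π) ⊔ (H.comap π).map (MulAut.conj g).toMonoidHom).map π :=
      Subgroup.mem_map_of_mem π hx
    rw [Subgroup.map_sup, Subgroup.map_comap_eq_self_of_surjective hπ, hmap] at h1
    exact h1
  · rw [← hmap, ← hmap, he]

theorem odd_index_comap {G' : Type*} [Group G'] (π : G →* G') (hπ : Function.Surjective π)
    (H : Subgroup G') (hH : Odd H.index) : Odd (H.comap π).index := by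
  rwa [Subgroup.index_comap_of_surjective H hπ]

/-- A subgroup containing `U` is normalised by `B` if the orbits of `B` and `U` agree. -/
theorem normalizes_of_orbits (U B : Subgroup G) (hUB : U ≤ B)
    (hnorm : ∀ b ∈ B, ∀ u ∈ U, b * u * b⁻¹ ∈ U)
    (horb : ∀ b ∈ B, ∀ g : G, ∃ u ∈ U, ∃ c ∈ B, b * g = u * g * c)
    (hcomm : ∀ b ∈ B, ∀ c ∈ B, b * c * b⁻¹ * c⁻¹ ∈ U)
    (hN : ∀ g : G, (∀ u, u ∈ U ↔ g * u * g⁻¹ ∈ U) → g ∈ B)
    [Finite G] (p : ℕ) [Fact p.Prime] (P : Sylow p G) (hP : (P : Subgroup G) = U)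
    (H : Subgroup G) (hUH : U ≤ H) : ∀ b ∈ B, ∀ h ∈ H, b * h * b⁻¹ ∈ H := by
  intro b hb h hh
  -- the subgroup generated by the conjugates of `U` in `H`
  let K : Subgroup H := Subgroup.normalClosure ((U.subgroupOf H : Subgroup H) : Set H)
  have hK : ∀ k ∈ K, b * (k : G) * b⁻¹ ∈ H := by
    intro k hk
    induction hk using Subgroup.closure_induction with
    | mem k hk =>
      rw [Group.mem_conjugatesOfSet_iff] at hk
      obtain ⟨v, hv, hconj⟩ := hk
      obtain ⟨c, rfl⟩ := isConj_iff.1 hconj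
      have hvU : (v : G) ∈ U := Subgroup.mem_subgroupOf.1 hv
      obtain ⟨u, hu, d, hd, he⟩ := horb b hb (c : G)
      have e : b * ((c * v * c⁻¹ : H) : G) * b⁻¹ =
          (u * (c : G)) * (d * (v : G) * d⁻¹) * (u * (c : G))⁻¹ := by
        push_cast
        calc b * ((c : G) * v * (c : G)⁻¹) * b⁻¹ = (b * c) * v * (b * c)⁻¹ := by group
          _ = _ := by rw [he]; group
      rw [e]
      have hm : u * (c : G) ∈ H := H.mul_mem (hUH hu) c.2
      exact H.mul_mem (H.mul_mem hm (hUH (hnorm d hd _ hvU))) (H.inv_mem hm)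
    | one => simp
    | mul x y _ _ hx hy =>
      have : b * ((x * y : H) : G) * b⁻¹ = (b * (x : G) * b⁻¹) * (b * (y : G) * b⁻¹) := by
        push_cast; group
      rw [this]; exact H.mul_mem hx hy
    | inv x _ hx =>
      have : b * ((x⁻¹ : H) : G) * b⁻¹ = (b * (x : G) * b⁻¹)⁻¹ := by push_cast; group
      rw [this]; exact H.inv_mem hx
  -- Frattini argument
  have hUP : (U.subgroupOf H : Subgroup H) = ((P.subtype (hP ▸ hUH) : Sylow p H) : Subgroup H) := by
    rw [Sylow.coe_subtype, hP]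
  have hle : U.subgroupOf H ≤ K := fun x hx => Subgroup.subset_normalClosure hx
  let P' : Sylow p H := P.subtype (hP ▸ hUH)
  have hP'K : (P' : Subgroup H) ≤ K := hUP ▸ hle
  haveI : K.Normal := Subgroup.normalClosure_normal
  have htop := Sylow.normalizer_sup_eq_top' P' hP'K
  obtain ⟨m, hm, k, hk, hmk⟩ : ∃ m ∈ Subgroup.normalizer ((P' : Subgroup H) : Set H),
      ∃ k ∈ K, m * k = ⟨h, hh⟩ :=
    Subgroup.mem_sup_of_normal_right.1 (htop ▸ Subgroup.mem_top _)
  have hmB : (m : G) ∈ B := by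
    refine hN _ fun u => ?_
    rw [Subgroup.mem_normalizer_iff] at hm
    constructor
    · intro hu
      have := (hm ⟨u, hUH hu⟩).1 (hUP ▸ Subgroup.mem_subgroupOf.2 hu)
      rw [← hUP] at this
      simpa [Subgroup.mem_subgroupOf] using this
    · intro hu
      have hmem : u ∈ H := by
        have := H.mul_mem (H.mul_mem (H.inv_mem m.2) (hUH hu)) m.2
        simpa [mul_assoc] using this
      have := (hm ⟨u, hmem⟩).2 (by rw [← hUP]; simpa [Subgroup.mem_subgroupOf] using hu)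
      rw [← hUP] at this
      exact Subgroup.mem_subgroupOf.1 this
  have h2 : b * (m : G) * b⁻¹ ∈ H := by
    have := H.mul_mem (hUH (hcomm b hb _ hmB)) m.2
    rwa [inv_mul_cancel_right] at this
  have he : h = (m : G) * (k : G) := (congrArg Subtype.val hmk).symm
  have : b * h * b⁻¹ = (b * (m : G) * b⁻¹) * (b * (k : G) * b⁻¹) := by rw [he]; group
  rw [this]
  exact H.mul_mem h2 (hK k hk)

/-- The criterion. -/
theorem isPronormal_of_orbits (U B : Subgroup G) (hUB : U ≤ B)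
    (hnorm : ∀ b ∈ B, ∀ u ∈ U, b * u * b⁻¹ ∈ U)
    (horb : ∀ b ∈ B, ∀ g : G, ∃ u ∈ U, ∃ c ∈ B, b * g = u * g * c)
    (hcomm : ∀ b ∈ B, ∀ c ∈ B, b * c * b⁻¹ * c⁻¹ ∈ U)
    (hN : ∀ g : G, (∀ u, u ∈ U ↔ g * u * g⁻¹ ∈ U) → g ∈ B)
    [Finite G] (P : Sylow 2 G) (hP : (P : Subgroup G) = U)
    (H : Subgroup G) (hH : Odd H.index) : Cfsg.IsPronormal H := by
  haveI : Fact (Nat.Prime 2) := ⟨Nat.prime_two⟩
  obtain ⟨R⟩ : Nonempty (Sylow 2 H) := inferInstance
  have hidx : ¬ 2 ∣ ((R : Subgroup H).map H.subtype).index := by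
    rw [Subgroup.index_map_subtype]
    exact Nat.prime_two.not_dvd_mul R.not_dvd_index (Nat.two_dvd_ne_zero.2 (Nat.odd_iff.1 hH))
  let Q : Sylow 2 G := (R.isPGroup'.map H.subtype).toSylow hidx
  have hQ : (Q : Subgroup G) ≤ H := Subgroup.map_subtype_le _
  refine Cfsg.Agent.Lib.SymSylow.Pronormal.isPronormal_of_normalizer_le Q hQ ?_
  obtain ⟨g, hg⟩ := MulAction.exists_smul_eq G P Q
  have hQmem : ∀ z : G, z ∈ (Q : Subgroup G) ↔ g⁻¹ * z * g ∈ U := by
    intro z
    rw [← hg, Sylow.coe_subgroup_smul, ← hP, Subgroup.mem_pointwise_smul_iff_inv_smul_mem,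
      ← map_inv, MulAut.smul_def, MulAut.conj_apply, inv_inv]
  -- the conjugate of `H` containing `U`
  set H' : Subgroup G := H.comap (MulAut.conj g).toMonoidHom with hH'
  have hUH' : U ≤ H' := by
    intro u hu
    show g * u * g⁻¹ ∈ H
    exact hQ ((hQmem _).2 (by simpa [mul_assoc] using hu))
  have hnorm' := normalizes_of_orbits U B hUB hnorm horb hcomm hN 2 P hP H' hUH'
  intro z hz
  rw [Subgroup.mem_normalizer_iff] at hz
  have hb : g⁻¹ * z * g ∈ B := by
    refine hN _ fun u => ?_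
    have := hz (g * u * g⁻¹)
    rw [hQmem, hQmem] at this
    simpa [mul_assoc] using this
  have key : ∀ w : G, g⁻¹ * w * g ∈ B → ∀ y ∈ H, w * y * w⁻¹ ∈ H := by
    intro w hw y hy
    have h1 : g⁻¹ * y * g ∈ H' := by
      show g * (g⁻¹ * y * g) * g⁻¹ ∈ H
      simpa [mul_assoc] using hy
    have h2 : g * ((g⁻¹ * w * g) * (g⁻¹ * y * g) * (g⁻¹ * w * g)⁻¹) * g⁻¹ ∈ H :=
      hnorm' _ hw _ h1
    simpa [mul_assoc] using h2
  rw [Subgroup.mem_normalizer_iff]
  intro y
  refine ⟨key z hb y, fun hy => ?_⟩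
  have hbi : g⁻¹ * z⁻¹ * g ∈ B := by
    have := B.inv_mem hb
    simpa [mul_assoc] using this
  have := key z⁻¹ hbi _ hy
  simpa [mul_assoc] using this

end Cfsg.Agent.Lib.SUOddIndex52
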