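import Cfsg.Agent.Lib.GLFlags.Bruhat
import Cfsg.Agent.Lib.Unitary.Basic
import Mathlib

/-!
The Bruhat decomposition of the unitary group of the antidiagonal Hermitian form, obtained from the
one of `GL n` by the uniqueness of the unipotent factor.
-/

set_option autoImplicit false
set_option linter.unusedSectionVars false

namespace Cfsg.Agent.Lib.SUOddIndex52

open Matrix Cfsg.Agent.Lib.GLFlags

variable {n : ℕ} {F : Type*} [Field F]

/-- The upper unitriangular matrices vanishing at `(i, j)`, `i < j`, when `σ⁻¹ i < σ⁻¹ j`. -/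
def Pat (σ : Equiv.Perm (Fin n)) (M : Matrix (Fin n) (Fin n) F) : Prop :=
  M.BlockTriangular id ∧ (∀ i, M i i = 1) ∧ ∀ i j, i < j → σ⁻¹ i < σ⁻¹ j → M i j = 0

theorem tri_diag_mul {A B : Matrix (Fin n) (Fin n) F} (hA : A.BlockTriangular id)
    (hB : B.BlockTriangular id) (i : Fin n) : (A * B) i i = A i i * B i i := by
  rw [Matrix.mul_apply]
  refine Finset.sum_eq_single i (fun k _ hk => ?_) (fun h => absurd (Finset.mem_univ i) h)
  rcases lt_or_gt_of_ne hk with h | h
  · rw [hA (show id k < id i from h), zero_mul]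
  · rw [hB (show id i < id k from h), mul_zero]

theorem pat_one (σ : Equiv.Perm (Fin n)) : Pat σ (1 : Matrix (Fin n) (Fin n) F) :=
  ⟨Matrix.blockTriangular_one, fun i => by simp, fun i j h _ => Matrix.one_apply_ne h.ne⟩

theorem pat_mul {σ : Equiv.Perm (Fin n)} {A B : Matrix (Fin n) (Fin n) F} (hA : Pat σ A)
    (hB : Pat σ B) : Pat σ (A * B) := by
  refine ⟨hA.1.mul hB.1, fun i => ?_, fun i j hij hs => ?_⟩
  · rw [tri_diag_mul hA.1 hB.1, hA.2.1, hB.2.1, mul_one]
  · rw [Matrix.mul_apply]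
    refine Finset.sum_eq_zero fun k _ => ?_
    rcases lt_trichotomy k i with h | h | h
    · rw [hA.1 (show id k < id i from h), zero_mul]
    · subst h; rw [hB.2.2 k j hij hs, mul_zero]
    rcases lt_trichotomy k j with h' | h' | h'
    · rcases lt_or_ge (σ⁻¹ i) (σ⁻¹ k) with h2 | h2
      · rw [hA.2.2 i k h h2, zero_mul]
      · rw [hB.2.2 k j h' (lt_of_le_of_lt h2 hs), mul_zero]
    · subst h'; rw [hA.2.2 i k hij hs, zero_mul]
    · rw [hB.1 (show id j < id k from h'), mul_zero]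

theorem pat_inv [Fintype F] {σ : Equiv.Perm (Fin n)} {g : GL (Fin n) F}
    (hg : Pat σ (g : Matrix (Fin n) (Fin n) F)) :
    Pat σ ((g⁻¹ : GL (Fin n) F) : Matrix (Fin n) (Fin n) F) := by
  classical
  have h : g⁻¹ = g ^ (orderOf g - 1) := by
    rw [inv_eq_of_mul_eq_one_right]
    rw [← pow_succ', Nat.sub_add_cancel (orderOf_pos g), pow_orderOf_eq_one]
  rw [h]
  induction orderOf g - 1 with
  | zero => simpa using pat_one σ
  | succ k ih => rw [pow_succ, Units.val_mul]; exact pat_mul ih hg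

/-- The group of these matrices. -/
def Uw (F : Type*) [Field F] [Fintype F] (σ : Equiv.Perm (Fin n)) : Subgroup (GL (Fin n) F) where
  carrier := {g | Pat σ (g : Matrix (Fin n) (Fin n) F)}
  one_mem' := by
    show Pat σ ((1 : GL (Fin n) F) : Matrix (Fin n) (Fin n) F)
    rw [Units.val_one]; exact pat_one σ
  mul_mem' := by
    intro a b ha hb
    show Pat σ ((a * b : GL (Fin n) F) : Matrix (Fin n) (Fin n) F)
    rw [Units.val_mul]; exact pat_mul ha hb
  inv_mem' := fun hg => pat_inv hg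

theorem not_lt_rev {i j : Fin n} (h : i < j) :
    ¬ ((Fin.revPerm : Equiv.Perm (Fin n))⁻¹ i < (Fin.revPerm : Equiv.Perm (Fin n))⁻¹ j) := by
  simp [Equiv.Perm.inv_def, h.le]

/-- All upper unitriangular matrices. -/
abbrev UT (n : ℕ) (F : Type*) [Field F] [Fintype F] : Subgroup (GL (Fin n) F) :=
  Uw F (Fin.revPerm : Equiv.Perm (Fin n))

theorem mem_UT [Fintype F] {g : GL (Fin n) F} :
    g ∈ UT n F ↔ g.1.BlockTriangular id ∧ ∀ i, g.1 i i = 1 :=
  ⟨fun h => ⟨h.1, h.2.1⟩, fun h => ⟨h.1, h.2, fun _ _ hij hs => absurd hs (not_lt_rev hij)⟩⟩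

theorem Uw_le_UT [Fintype F] (σ : Equiv.Perm (Fin n)) : Uw F σ ≤ UT n F := fun _ h =>
  mem_UT.2 ⟨h.1, h.2.1⟩

/-- Multiplying by permutation matrices. -/
theorem mul_pm (A : Matrix (Fin n) (Fin n) F) (σ : Equiv.Perm (Fin n)) (i j : Fin n) :
    (A * (pm σ : Matrix (Fin n) (Fin n) F)) i j = A i (σ j) := by
  simp [pm, Matrix.mul_apply]

theorem pm_mul_apply (A : Matrix (Fin n) (Fin n) F) (σ : Equiv.Perm (Fin n)) (i j : Fin n) :
    ((pm σ : Matrix (Fin n) (Fin n) F) * A) (σ i) j = A i j := by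
  simp [pm, Matrix.mul_apply]

theorem diag_ne_zero {g : GL (Fin n) F} (hg : g.1.BlockTriangular id) (i : Fin n) : g.1 i i ≠ 0 := by
  have hd : g.1.det ≠ 0 := (Matrix.GeneralLinearGroup.det g).ne_zero
  rw [Matrix.det_of_upperTriangular hg, Finset.prod_ne_zero_iff] at hd
  exact hd i (Finset.mem_univ i)

theorem perm_eq_one_of_le {π : Equiv.Perm (Fin n)} (h : ∀ j, π j ≤ j) : π = 1 := by
  have key : ∀ m (j : Fin n), (j : ℕ) = m → π j = j := by
    intro m
    induction m using Nat.strong_induction_on with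
    | _ m ih =>
      intro j hj
      by_contra hne
      have hlt : π j < j := lt_of_le_of_ne (h j) hne
      have := ih (π j : ℕ) (hj ▸ hlt) (π j) rfl
      exact hne (π.injective this)
  exact Equiv.ext fun j => key _ j rfl

/-- The Bruhat cell of an element is determined. -/
theorem cell_unique {a b : GL (Fin n) F} (ha : a.1.BlockTriangular id) (hb : b.1.BlockTriangular id)
    {σ τ : Equiv.Perm (Fin n)} (h : a * pmGL σ = pmGL τ * b) : σ = τ := by
  have hm : a.1 * (pm σ : Matrix (Fin n) (Fin n) F) = (pm τ : Matrix (Fin n) (Fin n) F) * b.1 := congrArg Units.val h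
  have : τ⁻¹ * σ = 1 := by
    refine perm_eq_one_of_le fun j => ?_
    by_contra hlt
    have e := congrFun (congrFun hm (σ j)) j
    rw [mul_pm] at e
    have e2 : ((pm τ : Matrix (Fin n) (Fin n) F) * b.1) (σ j) j = b.1 ((τ⁻¹ * σ) j) j := by
      conv_lhs => rw [show σ j = τ ((τ⁻¹ * σ) j) by simp]
      exact pm_mul_apply _ _ _ _
    rw [e2, hb (show id j < id ((τ⁻¹ * σ) j) from not_le.1 hlt)] at e
    exact diag_ne_zero ha _ e
  exact (inv_mul_eq_one.1 this).symm

/-- The unipotent factor is determined. -/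
theorem factor_unique [Fintype F] {σ : Equiv.Perm (Fin n)} {x c : GL (Fin n) F} (hx : x ∈ Uw F σ)
    (hc : c.1.BlockTriangular id) (h : x * pmGL σ = pmGL σ * c) : x = 1 := by
  have hm : x.1 * (pm σ : Matrix (Fin n) (Fin n) F) = (pm σ : Matrix (Fin n) (Fin n) F) * c.1 := congrArg Units.val h
  apply Units.ext
  ext a b
  rcases lt_trichotomy a b with hab | hab | hab
  · rw [Units.val_one, Matrix.one_apply_ne hab.ne]
    rcases lt_or_ge (σ⁻¹ a) (σ⁻¹ b) with h' | h'
    · exact hx.2.2 a b hab h'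
    · have hne : σ⁻¹ b ≠ σ⁻¹ a := σ⁻¹.injective.ne hab.ne'
      have e := congrFun (congrFun hm (σ (σ⁻¹ a))) (σ⁻¹ b)
      rw [pm_mul_apply, mul_pm, hc (show id (σ⁻¹ b) < id (σ⁻¹ a) from lt_of_le_of_ne h' hne)] at e
      simpa using e
  · subst hab; rw [Units.val_one, Matrix.one_apply_eq]; exact hx.2.1 a
  · rw [Units.val_one, Matrix.one_apply_ne hab.ne']; exact hx.1 (show id b < id a from hab)

/-- The positions that may be non-zero. -/
abbrev Free (σ : Equiv.Perm (Fin n)) : Type :=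
  {p : Fin n × Fin n // p.1 < p.2 ∧ ¬ σ⁻¹ p.1 < σ⁻¹ p.2}

/-- The matrix with given free entries. -/
def patMat (σ : Equiv.Perm (Fin n)) (f : Free σ → F) : Matrix (Fin n) (Fin n) F :=
  Matrix.of fun i j => if h : i < j ∧ ¬ σ⁻¹ i < σ⁻¹ j then f ⟨(i, j), h⟩ else if i = j then 1 else 0

theorem patMat_pat (σ : Equiv.Perm (Fin n)) (f : Free σ → F) : Pat σ (patMat σ f) := by
  refine ⟨fun i j hij => ?_, fun i => by simp [patMat], fun i j hij hs => ?_⟩
  · simp only [id] at hij
    simp [patMat, not_lt.2 hij.le, hij.ne']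
  · simp only [patMat, Matrix.of_apply]
    rw [dif_neg (fun z => z.2 hs), if_neg hij.ne]

theorem card_Uw [Fintype F] (σ : Equiv.Perm (Fin n)) :
    Nat.card (Uw F σ) = Fintype.card F ^ Fintype.card (Free σ) := by
  classical
  have hdet : ∀ f : Free σ → F, (patMat σ f).det ≠ 0 := fun f => by
    rw [Matrix.det_of_upperTriangular (patMat_pat σ f).1]
    simp [(patMat_pat σ f).2.1]
  let e : (Free σ → F) ≃ Uw F σ :=
    { toFun := fun f => ⟨Matrix.GeneralLinearGroup.mkOfDetNeZero _ (hdet f), patMat_pat σ f⟩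
      invFun := fun g p => g.1.1 p.1.1 p.1.2
      left_inv := fun f => by
        funext p
        show patMat σ f p.1.1 p.1.2 = f p
        simp only [patMat, Matrix.of_apply]
        rw [dif_pos p.2]
      right_inv := fun g => by
        apply Subtype.ext
        apply Units.ext
        ext i j
        show patMat σ (fun p : Free σ => g.1.1 p.1.1 p.1.2) i j = g.1.1 i j
        by_cases h : i < j ∧ ¬ σ⁻¹ i < σ⁻¹ j
        · simp only [patMat, Matrix.of_apply]
          rw [dif_pos h]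
        · simp only [patMat, Matrix.of_apply, dif_neg h]
          rcases lt_trichotomy i j with h' | h' | h'
          · rw [if_neg h'.ne, g.2.2.2 i j h' (not_not.1 fun z => h ⟨h', z⟩)]
          · subst h'; rw [if_pos rfl, g.2.2.1 i]
          · rw [if_neg h'.ne']; exact (g.2.1 (show id j < id i from h')).symm }
  rw [← Nat.card_congr e, Nat.card_eq_fintype_card, Fintype.card_fun]

theorem card_free_add (σ : Equiv.Perm (Fin n)) :
    Fintype.card (Free σ) + Fintype.card (Free (σ * Fin.revPerm)) =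
      Fintype.card (Free (Fin.revPerm : Equiv.Perm (Fin n))) := by
  classical
  simp only [Free, Fintype.card_subtype]
  rw [← Finset.card_union_of_disjoint]
  · congr 1
    ext ⟨i, j⟩
    simp only [Finset.mem_union, Finset.mem_filter, Finset.mem_univ, true_and]
    constructor
    · rintro (⟨h, -⟩ | ⟨h, -⟩) <;> exact ⟨h, not_lt_rev h⟩
    · rintro ⟨h, -⟩
      simp only [_root_.mul_inv_rev, Equiv.Perm.mul_apply, Equiv.Perm.inv_def, Fin.revPerm_symm,
        Fin.revPerm_apply, Fin.rev_lt_rev]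
      by_cases hs : σ.symm i < σ.symm j
      · exact Or.inr ⟨h, not_lt.2 hs.le⟩
      · exact Or.inl ⟨h, hs⟩
  · rw [Finset.disjoint_filter]
    rintro ⟨i, j⟩ - ⟨h, hs⟩ ⟨-, hs'⟩
    simp only [_root_.mul_inv_rev, Equiv.Perm.mul_apply, Equiv.Perm.inv_def, Fin.revPerm_symm,
      Fin.revPerm_apply, Fin.rev_lt_rev] at hs hs'
    exact h.ne (σ.symm.injective (le_antisymm (not_lt.1 hs') (not_lt.1 hs)))

/-- Conjugating the complementary pattern gives upper triangular matrices. -/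
theorem conj_upper [Fintype F] {σ : Equiv.Perm (Fin n)} {v : GL (Fin n) F}
    (hv : v ∈ Uw F (σ * Fin.revPerm)) : ((pmGL σ)⁻¹ * v * pmGL σ).1.BlockTriangular id := by
  intro i j hij
  simp only [id] at hij
  rw [← map_inv, Units.val_mul, Units.val_mul, coe_pmGL, coe_pmGL, Matrix.mul_assoc]
  have e : ((pm σ⁻¹ : Matrix (Fin n) (Fin n) F) * (v.1 * (pm σ : Matrix (Fin n) (Fin n) F))) (σ⁻¹ (σ i)) j = v.1 (σ i) (σ j) := by
    rw [pm_mul_apply, mul_pm]
  rw [show σ⁻¹ (σ i) = i by simp] at e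
  rw [e]
  rcases lt_trichotomy (σ i) (σ j) with h | h | h
  · refine hv.2.2 _ _ h ?_
    simp [Equiv.Perm.inv_def, hij]
  · exact absurd (σ.injective h) hij.ne'
  · exact hv.1 (show id (σ j) < id (σ i) from h)

/-- Bruhat decomposition with reduced unipotent factor. -/
theorem exists_reduced [Fintype F] (g : GL (Fin n) F) :
    ∃ (σ : Equiv.Perm (Fin n)) (u b : GL (Fin n) F),
      u ∈ Uw F σ ∧ b.1.BlockTriangular id ∧ g = u * pmGL σ * b := by
  classical
  obtain ⟨A, B, σ, hA, hB, h⟩ := exists_gl_decomp g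
  have hAi : (A⁻¹ : GL (Fin n) F).1.BlockTriangular id :=
    (Cfsg.upperTriangularGL n F).inv_mem hA
  have hBi : (B⁻¹ : GL (Fin n) F).1.BlockTriangular id :=
    (Cfsg.upperTriangularGL n F).inv_mem hB
  -- separate the diagonal of `A⁻¹`
  have hα : ∀ i, (A⁻¹ : GL (Fin n) F).1 i i ≠ 0 := diag_ne_zero hAi
  let d : GL (Fin n) F := Matrix.GeneralLinearGroup.mkOfDetNeZero
    (Matrix.diagonal fun i => (A⁻¹ : GL (Fin n) F).1 i i)
    (by rw [Matrix.det_diagonal]; exact Finset.prod_ne_zero_iff.2 fun i _ => hα i)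
  let di : GL (Fin n) F := Matrix.GeneralLinearGroup.mkOfDetNeZero
    (Matrix.diagonal fun i => ((A⁻¹ : GL (Fin n) F).1 i i)⁻¹)
    (by rw [Matrix.det_diagonal]; exact Finset.prod_ne_zero_iff.2 fun i _ => inv_ne_zero (hα i))
  have hdi : di * d = 1 := by
    apply Units.ext
    show Matrix.diagonal _ * Matrix.diagonal _ = 1
    rw [Matrix.diagonal_mul_diagonal, ← Matrix.diagonal_one]
    congr 1
    funext i
    exact inv_mul_cancel₀ (hα i)
  have hu0 : A⁻¹ * di ∈ UT n F := by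
    refine mem_UT.2 ⟨hAi.mul (Matrix.blockTriangular_diagonal _), fun i => ?_⟩
    show ((A⁻¹ : GL (Fin n) F).1 *
      Matrix.diagonal (fun i => ((A⁻¹ : GL (Fin n) F).1 i i)⁻¹)) i i = 1
    rw [Matrix.mul_diagonal, mul_inv_cancel₀ (hα i)]
  -- the product map is surjective onto `UT`
  let f : Uw F σ × Uw F (σ * Fin.revPerm) → UT n F := fun p =>
    ⟨p.1.1 * p.2.1, mul_mem (Uw_le_UT σ p.1.2) (Uw_le_UT _ p.2.2)⟩
  have hf : Function.Injective f := by
    rintro ⟨x, y⟩ ⟨x', y'⟩ he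
    have he' : x.1 * y.1 = x'.1 * y'.1 := congrArg Subtype.val he
    have hz : x'.1⁻¹ * x.1 = y'.1 * y.1⁻¹ := by
      rw [inv_mul_eq_iff_eq_mul, ← mul_assoc, ← he', mul_inv_cancel_right]
    have hy : y'.1 * y.1⁻¹ ∈ Uw F (σ * Fin.revPerm) := mul_mem y'.2 (inv_mem y.2)
    have h1 : x'.1⁻¹ * x.1 = 1 :=
      factor_unique (mul_mem (inv_mem x'.2) x.2) (conj_upper hy) (by rw [hz]; group)
    obtain rfl : x = x' := Subtype.ext (inv_mul_eq_one.1 h1).symm
    obtain rfl : y = y' := Subtype.ext (mul_left_cancel he')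
    rfl
  have hb : Function.Bijective f := by
    refine (Nat.bijective_iff_injective_and_card f).2 ⟨hf, ?_⟩
    rw [Nat.card_prod, card_Uw, card_Uw, card_Uw, ← pow_add, card_free_add]
  obtain ⟨⟨u, v⟩, he⟩ := hb.2 ⟨_, hu0⟩
  have he' : u.1 * v.1 = A⁻¹ * di := congrArg Subtype.val he
  refine ⟨σ, u, ((pmGL σ)⁻¹ * (v.1 * d) * pmGL σ) * B⁻¹, u.2, ?_, ?_⟩
  · rw [Units.val_mul]
    refine Matrix.BlockTriangular.mul ?_ hBi
    have e : (pmGL σ)⁻¹ * (v.1 * d) * pmGL σ =
        ((pmGL σ)⁻¹ * v.1 * pmGL σ) * ((pmGL σ)⁻¹ * d * pmGL σ) := by group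
    rw [e, Units.val_mul]
    refine (conj_upper v.2).mul ?_
    intro i j hij
    rw [← map_inv, Units.val_mul, Units.val_mul, coe_pmGL, coe_pmGL, Matrix.mul_assoc]
    have e : ((pm σ⁻¹ : Matrix (Fin n) (Fin n) F) * (d.1 * (pm σ : Matrix (Fin n) (Fin n) F))) (σ⁻¹ (σ i)) j = d.1 (σ i) (σ j) := by
      rw [pm_mul_apply, mul_pm]
    rw [show σ⁻¹ (σ i) = i by simp] at e
    rw [e]
    exact Matrix.diagonal_apply_ne _ (σ.injective.ne (ne_of_gt hij))
  · have hg : g = A⁻¹ * pmGL σ * B⁻¹ := by rw [← h]; group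
    calc g = A⁻¹ * (di * d) * pmGL σ * B⁻¹ := by rw [hdi, mul_one, hg]
      _ = (A⁻¹ * di) * d * pmGL σ * B⁻¹ := by group
      _ = _ := by rw [← he']; group

/-! ### The twist -/

variable {q : ℕ}

/-- `M ↦ J (conj M)ᵀ J` for the antidiagonal `J`. -/
def twist [Fintype F] (hF : Fintype.card F = q ^ 2) (M : Matrix (Fin n) (Fin n) F) :
    Matrix (Fin n) (Fin n) F :=
  ((M.map (Unitary.conj hF)).submatrix Fin.revPerm Fin.revPerm)ᵀ

end Cfsg.Agent.Lib.SUOddIndex52
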