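import Cfsg.Agent.Lib.SUOddIndex52.Abstract
import Cfsg.Agent.Lib.SUOddIndex52.Bruhat
import Cfsg.Prelude.Def_Classical
import Mathlib

/-!
In characteristic two every subgroup of odd index of `PSU (2 m)` is pronormal.
-/

set_option autoImplicit false
set_option linter.unusedSectionVars false

namespace Cfsg.Agent.Lib.SUOddIndex52

open Matrix Cfsg.Agent.Lib.GLFlags

variable {n : ℕ} {F : Type*} [Field F] [Fintype F] {q : ℕ}

theorem twist_apply (hF : Fintype.card F = q ^ 2) (M : Matrix (Fin n) (Fin n) F) (i j : Fin n) :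
    twist hF M i j = M j.rev i.rev ^ q := by
  simp [twist]

theorem twist_mul (hF : Fintype.card F = q ^ 2) (A B : Matrix (Fin n) (Fin n) F) :
    twist hF (A * B) = twist hF B * twist hF A := by
  simp only [twist]
  rw [Matrix.map_mul, ← Matrix.transpose_mul, Matrix.submatrix_mul_equiv]

theorem twist_one (hF : Fintype.card F = q ^ 2) : twist hF (1 : Matrix (Fin n) (Fin n) F) = 1 := by
  simp only [twist]
  rw [Matrix.map_one _ (map_zero _) (map_one _), Matrix.submatrix_one_equiv, Matrix.transpose_one]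

theorem twist_twist (hF : Fintype.card F = q ^ 2) (M : Matrix (Fin n) (Fin n) F) :
    twist hF (twist hF M) = M := by
  ext i j
  rw [twist_apply, twist_apply, Fin.rev_rev, Fin.rev_rev, Unitary.pow_q_q hF]

/-- `g ↦ J ((conj g)ᵀ)⁻¹ J`. -/
def theta (hF : Fintype.card F = q ^ 2) : GL (Fin n) F →* GL (Fin n) F where
  toFun g :=
    { val := twist hF (g⁻¹ : GL (Fin n) F).1
      inv := twist hF g.1
      val_inv := by rw [← twist_mul, ← Units.val_mul, mul_inv_cancel, Units.val_one, twist_one]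
      inv_val := by rw [← twist_mul, ← Units.val_mul, inv_mul_cancel, Units.val_one, twist_one] }
  map_one' := Units.ext (by simp [twist_one])
  map_mul' a b := Units.ext (by
    show twist hF ((a * b)⁻¹ : GL (Fin n) F).1 =
      twist hF (a⁻¹ : GL (Fin n) F).1 * twist hF (b⁻¹ : GL (Fin n) F).1
    rw [_root_.mul_inv_rev, Units.val_mul, twist_mul])

theorem theta_val (hF : Fintype.card F = q ^ 2) (g : GL (Fin n) F) :
    (theta hF g).1 = twist hF (g⁻¹ : GL (Fin n) F).1 := rfl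

theorem theta_theta (hF : Fintype.card F = q ^ 2) (g : GL (Fin n) F) :
    theta hF (theta hF g) = g :=
  Units.ext (by show twist hF (twist hF g.1) = g.1; exact twist_twist hF g.1)

theorem theta_eq_iff (hF : Fintype.card F = q ^ 2) (g : GL (Fin n) F) :
    theta hF g = g ↔ twist hF g.1 * g.1 = 1 := by
  constructor
  · intro h
    have : (theta hF g)⁻¹ * g = 1 := by rw [h, inv_mul_cancel]
    exact congrArg Units.val this
  · intro h
    have : (theta hF g)⁻¹ * g = 1 := Units.ext h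
    exact inv_mul_eq_one.1 this

theorem twist_tri (hF : Fintype.card F = q ^ 2) {M : Matrix (Fin n) (Fin n) F}
    (h : M.BlockTriangular id) : (twist hF M).BlockTriangular id := by
  intro i j hij
  simp only [id] at hij
  rw [twist_apply, h (show id i.rev < id j.rev from Fin.rev_lt_rev.2 hij), Unitary.zero_pow_q hF]

theorem theta_tri (hF : Fintype.card F = q ^ 2) {g : GL (Fin n) F} (h : g.1.BlockTriangular id) :
    (theta hF g).1.BlockTriangular id :=
  twist_tri hF ((Cfsg.upperTriangularGL n F).inv_mem (show g ∈ Cfsg.upperTriangularGL n F from h))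

/-- Conjugation of permutations by the reversal. -/
abbrev rv (σ : Equiv.Perm (Fin n)) : Equiv.Perm (Fin n) :=
  (Fin.revPerm : Equiv.Perm (Fin n)) * σ * Fin.revPerm

theorem theta_pm (hF : Fintype.card F = q ^ 2) (σ : Equiv.Perm (Fin n)) :
    theta hF (pmGL σ : GL (Fin n) F) = pmGL (rv σ) := by
  apply Units.ext
  rw [theta_val, ← map_inv, coe_pmGL, coe_pmGL]
  ext i j
  rw [twist_apply]
  simp only [pm, Matrix.of_apply, rv, Equiv.Perm.mul_apply, Fin.revPerm_apply, Equiv.Perm.inv_def]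
  by_cases h : i = (σ j.rev).rev
  · subst h
    simp
  · rw [if_neg h, if_neg, Unitary.zero_pow_q hF]
    intro e
    apply h
    have : σ j.rev = i.rev := by rw [e, Equiv.apply_symm_apply]
    rw [this, Fin.rev_rev]

theorem theta_Uw (hF : Fintype.card F = q ^ 2) {σ : Equiv.Perm (Fin n)} {x : GL (Fin n) F}
    (hx : x ∈ Uw F σ) : theta hF x ∈ Uw F (rv σ) := by
  have hi := (Uw F σ).inv_mem hx
  refine ⟨twist_tri hF hi.1, fun i => ?_, fun i j hij hs => ?_⟩
  · rw [theta_val, twist_apply, hi.2.1, one_pow]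
  · rw [theta_val, twist_apply, hi.2.2 _ _ (Fin.rev_lt_rev.2 hij), Unitary.zero_pow_q hF]
    simpa [rv, Equiv.Perm.inv_def, _root_.mul_inv_rev, Fin.rev_lt_rev, mul_assoc] using hs

/-- The unitary group of the antidiagonal form, determinant one. -/
def GJ (hF : Fintype.card F = q ^ 2) (n : ℕ) : Subgroup (GL (Fin n) F) :=
  (theta hF).eqLocus (MonoidHom.id _) ⊓ (Matrix.GeneralLinearGroup.det).ker

theorem mem_GJ {hF : Fintype.card F = q ^ 2} {g : GL (Fin n) F} :
    g ∈ GJ hF n ↔ theta hF g = g ∧ Matrix.GeneralLinearGroup.det g = 1 := Iff.rfl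

theorem det_UT {g : GL (Fin n) F} (hg : g ∈ UT n F) : Matrix.GeneralLinearGroup.det g = 1 := by
  apply Units.ext
  rw [Matrix.GeneralLinearGroup.val_det_apply, Matrix.det_of_upperTriangular hg.1]
  simp [hg.2.1]

/-- The decomposition of a fixed element. -/
theorem exists_fixed_decomp (hF : Fintype.card F = q ^ 2) {g : GL (Fin n) F} (hg : theta hF g = g) :
    ∃ (σ : Equiv.Perm (Fin n)) (u b : GL (Fin n) F),
      u ∈ Uw F σ ∧ b.1.BlockTriangular id ∧ g = u * pmGL σ * b ∧ theta hF u = u ∧ rv σ = σ := by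
  obtain ⟨σ, u, b, hu, hb, he⟩ := exists_reduced g
  refine ⟨σ, u, b, hu, hb, he, ?_⟩
  have h1 : theta hF u * pmGL (rv σ) * theta hF b = u * pmGL σ * b := by
    rw [← theta_pm hF, ← map_mul, ← map_mul, ← he, hg]
  have hσ : rv σ = σ := by
    refine cell_unique (a := u⁻¹ * theta hF u) (b := b * (theta hF b)⁻¹) ?_ ?_ ?_
    · rw [Units.val_mul]
      exact ((Uw F σ).inv_mem hu).1.mul (theta_Uw hF hu).1
    · rw [Units.val_mul]
      exact hb.mul ((Cfsg.upperTriangularGL n F).inv_mem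
        (show theta hF b ∈ Cfsg.upperTriangularGL n F from theta_tri hF hb))
    · calc u⁻¹ * theta hF u * pmGL (rv σ) =
          u⁻¹ * (theta hF u * pmGL (rv σ) * theta hF b) * (theta hF b)⁻¹ := by group
        _ = _ := by rw [h1]; group
  refine ⟨?_, hσ⟩
  rw [hσ] at h1
  have hmem : u⁻¹ * theta hF u ∈ Uw F σ := mul_mem (inv_mem hu) (hσ ▸ theta_Uw hF hu)
  refine (inv_mul_eq_one.1 (factor_unique hmem (c := b * (theta hF b)⁻¹) ?_ ?_)).symm
  · rw [Units.val_mul]
    exact hb.mul ((Cfsg.upperTriangularGL n F).inv_mem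
      (show theta hF b ∈ Cfsg.upperTriangularGL n F from theta_tri hF hb))
  · calc u⁻¹ * theta hF u * pmGL σ =
        u⁻¹ * (theta hF u * pmGL σ * theta hF b) * (theta hF b)⁻¹ := by group
      _ = _ := by rw [h1]; group

/-- The diagonal part of an upper triangular element. -/
noncomputable def dpart {b : GL (Fin n) F} (hb : b.1.BlockTriangular id) : GL (Fin n) F :=
  Matrix.GeneralLinearGroup.mkOfDetNeZero (Matrix.diagonal fun i => b.1 i i)
    (by rw [Matrix.det_diagonal]; exact Finset.prod_ne_zero_iff.2 fun i _ => diag_ne_zero hb i)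

theorem dpart_val {b : GL (Fin n) F} (hb : b.1.BlockTriangular id) :
    (dpart hb).1 = Matrix.diagonal fun i => b.1 i i := rfl

theorem diag_inv {b : GL (Fin n) F} (hb : b.1.BlockTriangular id) (i : Fin n) :
    (b⁻¹ : GL (Fin n) F).1 i i = (b.1 i i)⁻¹ := by
  have hbi : (b⁻¹ : GL (Fin n) F).1.BlockTriangular id :=
    (Cfsg.upperTriangularGL n F).inv_mem (show b ∈ Cfsg.upperTriangularGL n F from hb)
  have h := tri_diag_mul hb hbi i
  rw [← Units.val_mul, mul_inv_cancel, Units.val_one, Matrix.one_apply_eq] at h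
  exact (inv_eq_of_mul_eq_one_right h.symm).symm

theorem dpart_tri {b : GL (Fin n) F} (hb : b.1.BlockTriangular id) :
    (dpart hb).1.BlockTriangular id :=
  Matrix.blockTriangular_diagonal _

theorem mul_dpart_inv {b : GL (Fin n) F} (hb : b.1.BlockTriangular id) :
    b * (dpart hb)⁻¹ ∈ UT n F := by
  have hd := dpart_tri hb
  have hdi : ((dpart hb)⁻¹ : GL (Fin n) F).1.BlockTriangular id :=
    (Cfsg.upperTriangularGL n F).inv_mem (show dpart hb ∈ Cfsg.upperTriangularGL n F from hd)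
  refine mem_UT.2 ⟨by rw [Units.val_mul]; exact hb.mul hdi, fun i => ?_⟩
  rw [Units.val_mul, tri_diag_mul hb hdi, diag_inv hd, dpart_val, Matrix.diagonal_apply_eq,
    mul_inv_cancel₀ (diag_ne_zero hb i)]

theorem dpart_mem (hF : Fintype.card F = q ^ 2) {b : GL (Fin n) F} (hb : b.1.BlockTriangular id)
    (hG : b ∈ GJ hF n) : dpart hb ∈ GJ hF n := by
  refine mem_GJ.2 ⟨(theta_eq_iff hF _).2 ?_, ?_⟩
  · have hfix := (mem_GJ.1 hG).1
    have hrel : ∀ i : Fin n, b.1 i.rev i.rev ^ q * b.1 i i = 1 := by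
      intro i
      have h := congrArg (fun g : GL (Fin n) F => g.1 i i) hfix
      simp only [theta_val, twist_apply, diag_inv hb] at h
      rw [← h, inv_pow, mul_inv_cancel₀ (pow_ne_zero q (diag_ne_zero hb _))]
    have e : twist hF (dpart hb).1 = Matrix.diagonal fun i => b.1 i.rev i.rev ^ q := by
      ext i j
      rw [twist_apply, dpart_val]
      by_cases h : i = j
      · subst h; simp
      · have : j.rev ≠ i.rev := fun z => h (Fin.rev_injective z).symm
        rw [Matrix.diagonal_apply_ne _ this, Matrix.diagonal_apply_ne _ h, Unitary.zero_pow_q hF]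
    rw [e, dpart_val, Matrix.diagonal_mul_diagonal, ← Matrix.diagonal_one]
    congr 1
    funext i
    exact hrel i
  · have h := (mem_GJ.1 hG).2
    apply Units.ext
    rw [← congrArg Units.val h, Matrix.GeneralLinearGroup.val_det_apply,
      Matrix.GeneralLinearGroup.val_det_apply, dpart_val, Matrix.det_diagonal,
      Matrix.det_of_upperTriangular hb]

theorem mem_UT_of_two_power [CharP F 2] {b : GL (Fin n) F} (hb : b.1.BlockTriangular id) {k : ℕ}
    (hk : b ^ 2 ^ k = 1) : b ∈ UT n F := by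
  refine mem_UT.2 ⟨hb, fun i => ?_⟩
  have hp : ∀ l : ℕ, (b ^ l).1.BlockTriangular id ∧ (b ^ l).1 i i = b.1 i i ^ l := by
    intro l
    induction l with
    | zero => simp [Matrix.blockTriangular_one]
    | succ l ih =>
      rw [pow_succ, Units.val_mul]
      exact ⟨ih.1.mul hb, by rw [tri_diag_mul ih.1 hb, ih.2, pow_succ]⟩
  have h := (hp (2 ^ k)).2
  rw [hk, Units.val_one, Matrix.one_apply_eq] at h
  haveI : Fact (Nat.Prime 2) := ⟨Nat.prime_two⟩
  have : (b.1 i i - 1) ^ 2 ^ k = 0 := by rw [sub_pow_char_pow, ← h, one_pow, sub_self]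
  exact sub_eq_zero.1 ((pow_eq_zero_iff (Nat.two_pow_pos k).ne').1 this)

theorem exists_fixed_ne_one (hF : Fintype.card F = q ^ 2) (hq : 2 ∣ q) {σ : Equiv.Perm (Fin n)}
    (hσ : rv σ = σ) (h : Uw F σ ≠ ⊥) : ∃ x ∈ Uw F σ, theta hF x = x ∧ x ≠ 1 := by
  classical
  haveI : Fact (Nat.Prime 2) := ⟨Nat.prime_two⟩
  haveI : Fintype (Uw F σ) := Fintype.ofFinite _
  let f : Uw F σ → Uw F σ := fun x => ⟨theta hF x.1, by
    have h := theta_Uw hF x.2
    rwa [hσ] at h⟩
  have hf : Function.Involutive f := fun x => Subtype.ext (theta_theta hF x.1)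
  let e : Equiv.Perm (Uw F σ) := hf.toPerm
  have he : e ^ 2 ^ 1 = 1 := by
    ext x
    rw [pow_one, pow_two, Equiv.Perm.mul_apply]
    exact congrArg (fun z : Uw F σ => (z.1.1 : Matrix (Fin n) (Fin n) F) _ _) (hf x)
  by_contra hne
  push Not at hne
  have hsupp : e.supportᶜ = {1} := by
    ext x
    simp only [Finset.mem_compl, Equiv.Perm.mem_support, ne_eq, not_not, Finset.mem_singleton]
    constructor
    · intro hx
      exact Subtype.ext (hne x.1 x.2 (congrArg Subtype.val hx))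
    · rintro rfl
      exact Subtype.ext (map_one (theta hF))
  have hmod := Equiv.Perm.card_compl_support_modEq he
  rw [hsupp, Finset.card_singleton, ← Nat.card_eq_fintype_card, card_Uw, hF, ← pow_mul] at hmod
  have hne0 : 2 * Fintype.card (Free σ) ≠ 0 := by
    intro h0
    apply h
    rw [Subgroup.eq_bot_iff_card, card_Uw, show Fintype.card (Free σ) = 0 by omega, pow_zero]
  have : 2 ∣ q ^ (2 * Fintype.card (Free σ)) := dvd_pow hq hne0
  unfold Nat.ModEq at hmod
  omega

section Group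

variable (hF : Fintype.card F = q ^ 2)

/-- The unipotent subgroup inside `GJ`. -/
def U0 : Subgroup (GJ hF n) := (UT n F).subgroupOf (GJ hF n)

/-- The Borel subgroup inside `GJ`. -/
def B0 : Subgroup (GJ hF n) := (Cfsg.upperTriangularGL n F).subgroupOf (GJ hF n)

theorem mem_U0 {g : GJ hF n} : g ∈ U0 hF ↔ g.1 ∈ UT n F := Subgroup.mem_subgroupOf

theorem mem_B0 {g : GJ hF n} : g ∈ B0 hF ↔ g.1.1.BlockTriangular id := Iff.rfl

theorem norm_U0 : ∀ b ∈ B0 (n := n) hF, ∀ u ∈ U0 hF, b * u * b⁻¹ ∈ U0 hF := by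
  intro b hb u hu
  have hb' : b.1.1.BlockTriangular id := hb
  have hu' := mem_UT.1 ((mem_U0 hF).1 hu)
  have hbi : (b.1⁻¹ : GL (Fin n) F).1.BlockTriangular id :=
    (Cfsg.upperTriangularGL n F).inv_mem (show b.1 ∈ Cfsg.upperTriangularGL n F from hb')
  refine (mem_U0 hF).2 (mem_UT.2 ⟨?_, fun i => ?_⟩)
  · exact (hb'.mul hu'.1).mul hbi
  · show ((b.1.1 * u.1.1) * (b.1⁻¹ : GL (Fin n) F).1) i i = 1
    rw [tri_diag_mul (hb'.mul hu'.1) hbi, tri_diag_mul hb' hu'.1, hu'.2, mul_one, diag_inv hb',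
      mul_inv_cancel₀ (diag_ne_zero hb' i)]

theorem comm_B0 : ∀ b ∈ B0 (n := n) hF, ∀ c ∈ B0 hF, b * c * b⁻¹ * c⁻¹ ∈ U0 hF := by
  intro b hb c hc
  have hb' : b.1.1.BlockTriangular id := hb
  have hc' : c.1.1.BlockTriangular id := hc
  have hbi : (b.1⁻¹ : GL (Fin n) F).1.BlockTriangular id :=
    (Cfsg.upperTriangularGL n F).inv_mem (show b.1 ∈ Cfsg.upperTriangularGL n F from hb')
  have hci : (c.1⁻¹ : GL (Fin n) F).1.BlockTriangular id :=
    (Cfsg.upperTriangularGL n F).inv_mem (show c.1 ∈ Cfsg.upperTriangularGL n F from hc')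
  refine (mem_U0 hF).2 (mem_UT.2 ⟨((hb'.mul hc').mul hbi).mul hci, fun i => ?_⟩)
  show (((b.1.1 * c.1.1) * (b.1⁻¹ : GL (Fin n) F).1) * (c.1⁻¹ : GL (Fin n) F).1) i i = 1
  rw [tri_diag_mul ((hb'.mul hc').mul hbi) hci, tri_diag_mul (hb'.mul hc') hbi,
    tri_diag_mul hb' hc', diag_inv hb', diag_inv hc']
  field_simp [diag_ne_zero hb' i, diag_ne_zero hc' i]

theorem orb_B0 : ∀ b ∈ B0 (n := n) hF, ∀ g : GJ hF n, ∃ u ∈ U0 hF, ∃ c ∈ B0 hF,
    b * g = u * g * c := by
  intro b hb g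
  have hb' : b.1.1.BlockTriangular id := hb
  set d : GJ hF n := ⟨dpart hb', dpart_mem hF hb' b.2⟩ with hd
  obtain ⟨σ, u, c, hu, hc, he, hfu, -⟩ := exists_fixed_decomp hF (mem_GJ.1 g.2).1
  let u' : GJ hF n := ⟨u, mem_GJ.2 ⟨hfu, det_UT (Uw_le_UT σ hu)⟩⟩
  have hu' : u' ∈ U0 hF := (mem_U0 hF).2 (Uw_le_UT σ hu)
  have hbd : b * d⁻¹ ∈ U0 hF := (mem_U0 hF).2 (mul_dpart_inv hb')
  have hdB : d ∈ B0 hF := dpart_tri hb'
  refine ⟨b * d⁻¹ * (d * u' * d⁻¹) * u'⁻¹,
    mul_mem (mul_mem hbd (norm_U0 hF d hdB u' hu')) (inv_mem hu'),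
    g⁻¹ * u' * d * u'⁻¹ * g, ?_, by group⟩
  show ((g.1⁻¹ * u * dpart hb' * u⁻¹ * g.1 : GL (Fin n) F)).1.BlockTriangular id
  have e : g.1⁻¹ * u * dpart hb' * u⁻¹ * g.1 =
      c⁻¹ * ((pmGL σ)⁻¹ * dpart hb' * pmGL σ) * c := by
    rw [he]; group
  rw [e, Units.val_mul, Units.val_mul]
  refine (Matrix.BlockTriangular.mul ((Cfsg.upperTriangularGL n F).inv_mem
    (show c ∈ Cfsg.upperTriangularGL n F from hc)) ?_).mul hc
  intro i j hij
  simp only [id] at hij
  rw [← map_inv, Units.val_mul, Units.val_mul, coe_pmGL, coe_pmGL, Matrix.mul_assoc]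
  have e2 : ((pm σ⁻¹ : Matrix (Fin n) (Fin n) F) *
      ((dpart hb').1 * (pm σ : Matrix (Fin n) (Fin n) F))) (σ⁻¹ (σ i)) j =
      (dpart hb').1 (σ i) (σ j) := by
    rw [pm_mul_apply, mul_pm]
  rw [show σ⁻¹ (σ i) = i by simp] at e2
  rw [e2, dpart_val]
  exact Matrix.diagonal_apply_ne _ (σ.injective.ne hij.ne')

theorem mem_B0_of_normalizes (hq : 2 ∣ q) :
    ∀ g : GJ hF n, (∀ u, u ∈ U0 hF ↔ g * u * g⁻¹ ∈ U0 hF) → g ∈ B0 hF := by
  intro g hg
  obtain ⟨σ, u, c, hu, hc, he, hfu, hσ⟩ := exists_fixed_decomp hF (mem_GJ.1 g.2).1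
  let u' : GJ hF n := ⟨u, mem_GJ.2 ⟨hfu, det_UT (Uw_le_UT σ hu)⟩⟩
  have hu' : u' ∈ U0 hF := (mem_U0 hF).2 (Uw_le_UT σ hu)
  have hbot : Uw F σ = ⊥ := by
    by_contra hne
    obtain ⟨x, hx, hfx, hx1⟩ := exists_fixed_ne_one hF hq hσ hne
    let x' : GJ hF n := ⟨x, mem_GJ.2 ⟨hfx, det_UT (Uw_le_UT σ hx)⟩⟩
    have hxU : x' ∈ U0 hF := (mem_U0 hF).2 (Uw_le_UT σ hx)
    -- pull `x` back by the reduced part of `g`
    have hy : g⁻¹ * (u' * x' * u'⁻¹) * g ∈ U0 hF := by
      refine (hg _).2 ?_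
      simpa [mul_assoc] using mul_mem (mul_mem hu' hxU) (inv_mem hu')
    have hy' : (g.1⁻¹ * (u * x * u⁻¹) * g.1) ∈ UT n F := (mem_U0 hF).1 hy
    apply hx1
    refine factor_unique hx (c := c * (g.1⁻¹ * (u * x * u⁻¹) * g.1) * c⁻¹) ?_ ?_
    · rw [Units.val_mul, Units.val_mul]
      exact (hc.mul hy'.1).mul ((Cfsg.upperTriangularGL n F).inv_mem
        (show c ∈ Cfsg.upperTriangularGL n F from hc))
    · rw [he]; group
  have hmono : ∀ a b, a < b → σ⁻¹ a < σ⁻¹ b := by
    intro a b hab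
    by_contra hs
    have h1 := card_Uw (F := F) σ
    rw [hbot, Subgroup.card_bot] at h1
    have hpos : 0 < Fintype.card (Free σ) := Fintype.card_pos_iff.2 ⟨⟨(a, b), hab, hs⟩⟩
    have := Nat.one_lt_pow hpos.ne' (Fintype.one_lt_card (α := F))
    omega
  have hσ1 : σ = 1 := by
    refine perm_eq_one_of_le fun j => ?_
    have hm : StrictMono (σ⁻¹ : Equiv.Perm (Fin n)) := fun a b => hmono a b
    simpa using hm.le_apply (x := σ j)
  rw [hσ1, map_one, mul_one] at he
  show g.1.1.BlockTriangular id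
  rw [he, Units.val_mul]
  exact hu.1.mul hc

theorem isPGroup_U0 (hq : 2 ∣ q) : IsPGroup 2 (U0 (n := n) hF) := by
  obtain ⟨p, k, hp, -, -, hpk⟩ := Unitary.q_eq_primePow hF
  have hp2 : p = 2 := by
    subst hpk
    exact ((Nat.prime_dvd_prime_iff_eq Nat.prime_two hp).1 (Nat.prime_two.dvd_of_dvd_pow hq)).symm
  have h : Nat.card (UT n F) = 2 ^ (k * 2 * Fintype.card (Free (Fin.revPerm : Equiv.Perm (Fin n)))) := by
    rw [card_Uw, hF, hpk, hp2, ← pow_mul, ← pow_mul, mul_assoc]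
  have hU : IsPGroup 2 (UT n F) := IsPGroup.of_card h
  intro x
  obtain ⟨j, hj⟩ := hU ⟨x.1.1, x.2⟩
  refine ⟨j, Subtype.ext (Subtype.ext ?_)⟩
  simpa using congrArg Subtype.val hj

theorem exists_sylow_U0 (hq : 2 ∣ q) [CharP F 2] :
    ∃ P : Sylow 2 (GJ hF n), (P : Subgroup (GJ hF n)) = U0 hF := by
  haveI : Fact (Nat.Prime 2) := ⟨Nat.prime_two⟩
  obtain ⟨P, hP⟩ := (isPGroup_U0 (n := n) hF hq).exists_le_sylow
  refine ⟨P, (hP.antisymm ?_).symm⟩
  by_contra hne
  have hlt : (U0 hF).subgroupOf (P : Subgroup (GJ hF n)) < ⊤ := by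
    refine lt_top_iff_ne_top.2 fun e => hne ?_
    rwa [Subgroup.subgroupOf_eq_top] at e
  haveI : Group.IsNilpotent (P : Subgroup (GJ hF n)) := P.isPGroup'.isNilpotent
  have hnc := Group.normalizerCondition_of_isNilpotent
    (G := (P : Subgroup (GJ hF n))) _ hlt
  obtain ⟨x, hx, hxU⟩ := SetLike.exists_of_lt hnc
  have hxB : x.1 ∈ B0 hF := by
    refine mem_B0_of_normalizes hF hq _ fun u => ?_
    rw [Subgroup.mem_normalizer_iff] at hx
    constructor
    · intro hu
      exact Subgroup.mem_subgroupOf.1 ((hx ⟨u, hP hu⟩).1 (Subgroup.mem_subgroupOf.2 hu))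
    · intro hu
      have hmem : u ∈ (P : Subgroup (GJ hF n)) := by
        have := (P : Subgroup (GJ hF n)).mul_mem
          ((P : Subgroup (GJ hF n)).mul_mem (inv_mem x.2) (hP hu)) x.2
        simpa [mul_assoc] using this
      exact Subgroup.mem_subgroupOf.1 ((hx ⟨u, hmem⟩).2 (Subgroup.mem_subgroupOf.2 hu))
  obtain ⟨k, hk⟩ := P.isPGroup' x
  refine hxU (Subgroup.mem_subgroupOf.2 ((mem_U0 hF).2 (mem_UT_of_two_power hxB (k := k) ?_)))
  simpa using congrArg (fun z : (P : Subgroup (GJ hF n)) => z.1.1) hk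

/-- The pronormality in the group of the antidiagonal form. -/
theorem isPronormal_GJ (hq : 2 ∣ q) [CharP F 2] (H : Subgroup (GJ hF n)) (hH : Odd H.index) :
    Cfsg.IsPronormal H := by
  obtain ⟨P, hP⟩ := exists_sylow_U0 (n := n) hF hq
  refine isPronormal_of_orbits (U0 hF) (B0 hF) ?_ (norm_U0 hF) (orb_B0 hF) (comm_B0 hF)
    (mem_B0_of_normalizes hF hq) P hP H hH
  intro g hg
  exact (mem_UT.1 ((mem_U0 hF).1 hg)).1

end Group

/-- A hyperbolic basis in characteristic two. -/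
theorem exists_antidiag_basis (hF : Fintype.card F = q ^ 2) [CharP F 2] (m : ℕ) :
    ∃ P : GL (Fin (m + m)) F,
      (P.1.map (Unitary.conj hF))ᵀ * P.1 =
        (1 : Matrix (Fin (m + m)) (Fin (m + m)) F).submatrix Fin.revPerm id := by
  obtain ⟨c, hc⟩ := Unitary.trace_surj hF (y := (1 : F)) (one_pow q)
  let Q : Matrix (Fin 2) (Fin 2) F := !![1, c; 1, 1 + c]
  have hQ : (Q.map (Unitary.conj hF))ᵀ * Q = !![0, 1; 1, 0] := by
    ext i j
    fin_cases i <;> fin_cases j <;>
      simp [Q, Matrix.mul_apply, Fin.sum_univ_two, Unitary.add_pow_q hF, CharTwo.add_self_eq_zero]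
    · linear_combination (CharTwo.two_eq_zero (R := F)) * c
    · linear_combination (CharTwo.two_eq_zero (R := F)) * (c ^ q)
    · linear_combination hc + (CharTwo.two_eq_zero (R := F)) * (c * c ^ q + 1)
  let e : Fin 2 × Fin m ≃ Fin (m + m) :=
    { toFun := fun p => if p.1 = 0 then Fin.castAdd m p.2 else (Fin.castAdd m p.2).rev
      invFun := fun i => if h : (i : ℕ) < m then (0, ⟨i, h⟩) else (1, ⟨m + m - 1 - i, by omega⟩)
      left_inv := by
        rintro ⟨a, b⟩
        fin_cases a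
        · simp
        · have h : ¬ ((Fin.castAdd m b).rev : ℕ) < m := by simp [Fin.val_rev]; omega
          simp only [Fin.mk_one, Fin.isValue, one_ne_zero, ↓reduceIte, dif_neg h]
          refine Prod.ext rfl (Fin.ext ?_)
          simp [Fin.val_rev]
          omega
      right_inv := fun i => by
        dsimp only
        by_cases h : (i : ℕ) < m
        · rw [dif_pos h, if_pos rfl]
          exact Fin.ext rfl
        · rw [dif_neg h, if_neg (by simp)]
          refine Fin.ext ?_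
          simp [Fin.val_rev]
          omega }
  let M : Matrix (Fin (m + m)) (Fin (m + m)) F :=
    (Matrix.blockDiagonal fun _ : Fin m => Q).submatrix e.symm e.symm
  have hM : (M.map (Unitary.conj hF))ᵀ * M =
      (1 : Matrix (Fin (m + m)) (Fin (m + m)) F).submatrix Fin.revPerm id := by
    simp only [M]
    rw [← Matrix.submatrix_map, Matrix.transpose_submatrix, Matrix.blockDiagonal_map _ _ (map_zero _),
      Matrix.blockDiagonal_transpose, Matrix.submatrix_mul_equiv, ← Matrix.blockDiagonal_mul]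
    simp only [hQ]
    ext i j
    obtain ⟨⟨a, b⟩, rfl⟩ := e.surjective i
    obtain ⟨⟨a', b'⟩, rfl⟩ := e.surjective j
    simp only [Matrix.submatrix_apply, Equiv.symm_apply_apply, id]
    have hrev : Fin.revPerm (e (a, b)) = e (a + 1, b) := by
      fin_cases a <;> simp [e]
    rw [hrev, Matrix.one_apply, Matrix.blockDiagonal_apply]
    simp only [e.injective.eq_iff, Prod.mk.injEq]
    by_cases hb : b = b'
    · subst hb
      simp only [if_true, and_true]
      fin_cases a <;> fin_cases a' <;> simp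
    · simp [hb]
  have hdet : M.det ≠ 0 := by
    intro h0
    have := congrArg Matrix.det hM
    rw [Matrix.det_mul, h0, mul_zero, Matrix.det_permute, Matrix.det_one, mul_one] at this
    exact ((Units.map (Int.castRingHom F : ℤ →* F)) (Equiv.Perm.sign (Fin.revPerm :
      Equiv.Perm (Fin (m + m))))).ne_zero this.symm
  exact ⟨Matrix.GeneralLinearGroup.mkOfDetNeZero M hdet, hM⟩

end Cfsg.Agent.Lib.SUOddIndex52
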