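import Cfsg.Agent.Lib.SUOddIndex52.Step
import Cfsg.Agent.Lib.SylowOrth52.Forms
import Mathlib

/-!
Sylow 2-subgroups of `GU 2`, `q` odd: monomial groups; and the two-part of the order of `GU (2 m)`.
-/

set_option autoImplicit false
set_option linter.unusedSectionVars false

namespace Cfsg.Agent.Lib.SUOddIndex52

open Matrix Cfsg.Agent.Lib.SLOddIndex Cfsg.Agent.Lib.SylowOrth52

variable {F : Type*} [Field F]

/-- Diagonal elements of `GL 2`. -/
def dg : Fˣ × Fˣ →* GL (Fin 2) F :=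
  MonoidHom.toHomUnits
    { toFun := fun p => Matrix.diagonal ![(p.1 : F), (p.2 : F)]
      map_one' := by ext i j; fin_cases i <;> fin_cases j <;> simp
      map_mul' := fun p q => by ext i j; fin_cases i <;> fin_cases j <;> simp }

theorem dg_val (p : Fˣ × Fˣ) :
    (dg p : GL (Fin 2) F).1 = Matrix.diagonal ![(p.1 : F), (p.2 : F)] := rfl

theorem gl_congr {x y : GL (Fin 2) F} (h : x = y) (i j : Fin 2) : x.1 i j = y.1 i j := by rw [h]

theorem dg_injective : Function.Injective (dg : Fˣ × Fˣ →* GL (Fin 2) F) := by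
  intro p r h
  have h0 := gl_congr h 0 0
  have h1 := gl_congr h 1 1
  simp only [dg_val, Matrix.diagonal_apply_eq] at h0 h1
  exact Prod.ext (Units.ext h0) (Units.ext h1)

/-- The exchange of the two coordinates. -/
def sp : GL (Fin 2) F where
  val := !![0, 1; 1, 0]
  inv := !![0, 1; 1, 0]
  val_inv := by ext i j; fin_cases i <;> fin_cases j <;> simp [Matrix.mul_apply, Fin.sum_univ_two]
  inv_val := by ext i j; fin_cases i <;> fin_cases j <;> simp [Matrix.mul_apply, Fin.sum_univ_two]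

theorem sp_sq : (sp : GL (Fin 2) F) * sp = 1 := Units.ext sp.val_inv

theorem sp_inv : (sp : GL (Fin 2) F)⁻¹ = sp := inv_eq_of_mul_eq_one_right sp_sq

theorem sp_dg (p : Fˣ × Fˣ) : (sp : GL (Fin 2) F) * dg p = dg p.swap * sp := by
  apply Units.ext
  ext i j
  fin_cases i <;> fin_cases j <;>
    simp [sp, dg_val, Matrix.mul_apply, Fin.sum_univ_two]

theorem dg_ne_sp (p r : Fˣ × Fˣ) : (dg p : GL (Fin 2) F) ≠ dg r * sp := by
  intro h
  have h0 := gl_congr h 0 0
  simp [sp, dg_val, Matrix.mul_apply, Fin.sum_univ_two] at h0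

/-- The monomial group on `S`. -/
def W2 (S : Subgroup (Fˣ × Fˣ)) (hS : ∀ p ∈ S, p.swap ∈ S) : Subgroup (GL (Fin 2) F) where
  carrier := {x | ∃ p ∈ S, x = dg p ∨ x = dg p * sp}
  one_mem' := ⟨1, one_mem S, Or.inl (map_one (dg : Fˣ × Fˣ →* GL (Fin 2) F)).symm⟩
  mul_mem' := by
    rintro _ _ ⟨p, hp, rfl | rfl⟩ ⟨r, hr, rfl | rfl⟩
    · exact ⟨p * r, mul_mem hp hr, Or.inl (map_mul _ _ _).symm⟩
    · exact ⟨p * r, mul_mem hp hr, Or.inr (by rw [map_mul]; group)⟩
    · exact ⟨p * r.swap, mul_mem hp (hS r hr), Or.inr (by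
        rw [map_mul, mul_assoc (dg p) sp, sp_dg]; group)⟩
    · exact ⟨p * r.swap, mul_mem hp (hS r hr), Or.inl (by
        rw [map_mul, mul_assoc (dg p) sp, ← mul_assoc sp, sp_dg, mul_assoc (dg r.swap) sp sp, sp_sq,
          mul_one])⟩
  inv_mem' := by
    rintro _ ⟨p, hp, rfl | rfl⟩
    · exact ⟨p⁻¹, inv_mem hp, Or.inl (map_inv _ _).symm⟩
    · exact ⟨(p⁻¹).swap, hS _ (inv_mem hp), Or.inr (by
        rw [_root_.mul_inv_rev, sp_inv, ← map_inv, sp_dg])⟩

theorem card_W2 [Fintype F] (S : Subgroup (Fˣ × Fˣ)) (hS : ∀ p ∈ S, p.swap ∈ S) :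
    Nat.card (W2 S hS) = 2 * Nat.card S := by
  let f : Bool × S → W2 S hS := fun p =>
    ⟨dg p.2.1 * cond p.1 sp 1, p.2.1, p.2.2, by
      cases p.1
      · exact Or.inl (mul_one _)
      · exact Or.inr rfl⟩
  have hf : Function.Bijective f := by
    constructor
    · rintro ⟨e, b⟩ ⟨e', b'⟩ h
      have h' : dg b.1 * cond e sp 1 = dg b'.1 * cond e' sp 1 := congrArg Subtype.val h
      cases e <;> cases e' <;> simp only [cond_true, cond_false, mul_one] at h'
      · exact Prod.ext rfl (Subtype.ext (dg_injective h'))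
      · exact absurd h' (dg_ne_sp _ _)
      · exact absurd h'.symm (dg_ne_sp _ _)
      · exact Prod.ext rfl (Subtype.ext (dg_injective (mul_right_cancel h')))
    · rintro ⟨x, p, hp, rfl | rfl⟩
      · exact ⟨⟨false, p, hp⟩, Subtype.ext (mul_one _)⟩
      · exact ⟨⟨true, p, hp⟩, Subtype.ext rfl⟩
  rw [← Nat.card_eq_of_bijective f hf, Nat.card_prod, Nat.card_eq_fintype_card (α := Bool),
    Fintype.card_bool]

theorem exists_diag {a : GL (Fin 2) F} (h01 : a.1 0 1 = 0) (h10 : a.1 1 0 = 0) :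
    ∃ r, a = dg r := by
  have hd : a.1.det ≠ 0 := (Matrix.GeneralLinearGroup.det a).ne_zero
  rw [Matrix.det_fin_two, h01, zero_mul, sub_zero] at hd
  refine ⟨(Units.mk0 _ (left_ne_zero_of_mul hd), Units.mk0 _ (right_ne_zero_of_mul hd)), Units.ext ?_⟩
  ext i j
  fin_cases i <;> fin_cases j <;> simp [dg_val, h01, h10]

theorem exists_anti {a : GL (Fin 2) F} (h00 : a.1 0 0 = 0) (h11 : a.1 1 1 = 0) :
    ∃ r, a = dg r * sp := by
  have hd : a.1.det ≠ 0 := (Matrix.GeneralLinearGroup.det a).ne_zero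
  rw [Matrix.det_fin_two, h00, zero_mul, zero_sub, neg_ne_zero] at hd
  refine ⟨(Units.mk0 _ (left_ne_zero_of_mul hd), Units.mk0 _ (right_ne_zero_of_mul hd)), Units.ext ?_⟩
  ext i j
  fin_cases i <;> fin_cases j <;>
    simp [dg_val, sp, Matrix.mul_apply, Fin.sum_univ_two, h00, h11]

theorem sp_det : Matrix.GeneralLinearGroup.det (sp : GL (Fin 2) F) = -1 := by
  apply Units.ext
  simp [Matrix.GeneralLinearGroup.val_det_apply, sp, Matrix.det_fin_two]

theorem dg_det (p : Fˣ × Fˣ) :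
    Matrix.GeneralLinearGroup.det (dg p : GL (Fin 2) F) = p.1 * p.2 := by
  apply Units.ext
  simp [Matrix.GeneralLinearGroup.val_det_apply, dg_val, Matrix.det_fin_two]

/-- The properties used by the induction. -/
def Base (W : Subgroup (GL (Fin 2) F)) : Prop :=
  (∀ a : GL (Fin 2) F, (∀ w ∈ W, a * w * a⁻¹ ∈ W) → (∃ r : ℕ, r % 2 = 1 ∧ a ^ r = 1) → IsScal a) ∧
  (∀ x : GL (Fin 2) F, (∀ w ∈ W, Matrix.GeneralLinearGroup.det w = 1 → x * w = w * x) → IsScal x) ∧
  (∃ w ∈ W, Matrix.GeneralLinearGroup.det w = 1 ∧ ¬ IsScal w) ∧ (-1 : GL (Fin 2) F) ∈ W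

theorem base_W2 (S : Subgroup (Fˣ × Fˣ)) (hS : ∀ p ∈ S, p.swap ∈ S) (hSP : IsPGroup 2 S)
    (d : Fˣ × Fˣ) (hd : d ∈ S) (hd2 : d.1 ^ 2 ≠ d.2 ^ 2)
    (η : Fˣ) (hη : (η, η⁻¹) ∈ S) (hη2 : η ≠ η⁻¹)
    (x : Fˣ × Fˣ) (hx : x ∈ S) (hx1 : x.1 * x.2 = -1)
    (hm : ((-1 : Fˣ), (-1 : Fˣ)) ∈ S) : Base (W2 S hS) := by
  have hmem : ∀ p ∈ S, (dg p : GL (Fin 2) F) ∈ W2 S hS := fun p hp => ⟨p, hp, Or.inl rfl⟩
  have hsp : (sp : GL (Fin 2) F) ∈ W2 S hS :=
    ⟨1, one_mem S, Or.inr (by rw [map_one, one_mul])⟩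
  refine ⟨fun a ha ⟨r, hr, har⟩ => ?_, fun z hz => ?_, ⟨dg (η, η⁻¹), hmem _ hη, ?_, ?_⟩, ?_⟩
  · -- `a` permutes the two lines
    obtain ⟨e, he, hcase⟩ := ha _ (hmem d hd)
    rcases hcase with hcase | hcase
    swap
    · exfalso
      have h2 : a * dg (d * d) * a⁻¹ = dg (e * e.swap) := by
        calc a * dg (d * d) * a⁻¹ = (a * dg d * a⁻¹) * (a * dg d * a⁻¹) := by rw [map_mul]; group
          _ = dg e * (sp * dg e) * sp := by rw [hcase]; group
          _ = _ := by rw [sp_dg, map_mul]; simp [mul_assoc, sp_sq]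
      have hc : e.1 * e.2 = e.2 * e.1 := mul_comm _ _
      have h3 : a * dg (d * d) = dg (e * e.swap) * a := by rw [← h2]; group
      have h4 : ∀ i j, a.1 i j * ![((d * d).1 : F), ((d * d).2 : F)] j =
          ((e.1 * e.2 : Fˣ) : F) * a.1 i j := by
        intro i j
        have := gl_congr h3 i j
        simp only [Units.val_mul, dg_val, Matrix.mul_diagonal, Matrix.diagonal_mul] at this
        rw [this]
        fin_cases i <;> simp [mul_comm (e.1 : F) (e.2 : F)]
      apply hd2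
      have hcol : ∀ j, ∃ i, a.1 i j ≠ 0 := by
        intro j
        by_contra hne
        push Not at hne
        exact (Matrix.GeneralLinearGroup.det a).ne_zero (Matrix.det_eq_zero_of_column_eq_zero j hne)
      obtain ⟨i0, hi0⟩ := hcol 0
      obtain ⟨i1, hi1⟩ := hcol 1
      have e0 := h4 i0 0
      have e1 := h4 i1 1
      rw [mul_comm] at e0 e1
      have f0 := mul_right_cancel₀ hi0 e0
      have f1 := mul_right_cancel₀ hi1 e1
      simp at f0 f1
      apply Units.ext
      push_cast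
      rw [pow_two, pow_two, f0, f1]
    have h3 : a * dg d = dg e * a := by rw [← hcase]; group
    have h4 : ∀ i j, a.1 i j * ![(d.1 : F), (d.2 : F)] j = ![(e.1 : F), (e.2 : F)] i * a.1 i j := by
      intro i j
      have := gl_congr h3 i j
      simpa only [Units.val_mul, dg_val, Matrix.mul_diagonal, Matrix.diagonal_mul] using this
    have hd1 : (d.1 : F) ≠ d.2 := fun h => hd2 (by rw [Units.ext h])
    have hrow : ∀ i, a.1 i 0 = 0 ∨ a.1 i 1 = 0 := by
      intro i
      by_contra hne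
      push Not at hne
      have e0 := h4 i 0
      have e1 := h4 i 1
      rw [mul_comm] at e0 e1
      exact hd1 ((mul_right_cancel₀ hne.1 e0).trans (mul_right_cancel₀ hne.2 e1).symm)
    have hdet : a.1.det ≠ 0 := (Matrix.GeneralLinearGroup.det a).ne_zero
    rw [Matrix.det_fin_two] at hdet
    obtain ⟨p, hp⟩ : (∃ p, a = dg p) := by
      rcases hrow 0 with h | h
      · rcases hrow 1 with h' | h'
        · exact absurd (by rw [h, h']; ring) hdet
        · -- anti-diagonal elements have no odd order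
          exfalso
          obtain ⟨p, hp⟩ := exists_anti h h'
          have hsq : a * a = dg (p * p.swap) := by
            rw [hp, mul_assoc, ← mul_assoc sp, sp_dg, map_mul, mul_assoc (dg p.swap), sp_sq, mul_one]
          obtain ⟨l, rfl⟩ : ∃ l, r = 2 * l + 1 := ⟨r / 2, by omega⟩
          rw [pow_succ, pow_mul, pow_two, hsq, ← map_pow, hp, ← mul_assoc, ← map_mul] at har
          exact dg_ne_sp 1 _ (by rw [har, map_one])
      · rcases hrow 1 with h' | h'
        · exact exists_diag h h'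
        · exact absurd (by rw [h, h']; ring) hdet
    obtain ⟨g, hg, hgc⟩ := ha _ hsp
    have hq : a * sp * a⁻¹ = dg (p * p.swap⁻¹) * sp := by
      rw [hp, mul_assoc, ← map_inv, sp_dg, ← mul_assoc, ← map_mul]
      rfl
    have hgS : p * p.swap⁻¹ ∈ S := by
      rcases hgc with h | h
      · exact absurd (h.symm.trans hq) (dg_ne_sp _ _)
      · rw [hq] at h
        rwa [dg_injective (mul_right_cancel h)]
    obtain ⟨k, hk⟩ := hSP ⟨_, hgS⟩
    have hk' : (p.1 * p.2⁻¹) ^ 2 ^ k = 1 := congrArg (fun z : S => z.1.1) hk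
    rw [hp, ← map_pow, ← map_one (dg : Fˣ × Fˣ →* GL (Fin 2) F)] at har
    have hp1 : p.1 ^ r = 1 := congrArg Prod.fst (dg_injective har)
    have hp2 : p.2 ^ r = 1 := congrArg Prod.snd (dg_injective har)
    have hpp : p.1 * p.2⁻¹ = 1 :=
      odd_two_power hr (by rw [mul_pow, inv_pow, hp1, hp2, inv_one, mul_one]) hk'
    refine ⟨p.1, ?_⟩
    rw [hp, dg_val, ← mul_inv_eq_one.1 hpp, Matrix.scalar_apply]
    congr 1
    funext i
    fin_cases i <;> rfl
  · have h1 := hz _ (hmem _ hη) (by rw [dg_det, mul_inv_cancel])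
    have hw : Matrix.GeneralLinearGroup.det (dg x * sp : GL (Fin 2) F) = 1 := by
      rw [map_mul, dg_det, sp_det, hx1, neg_mul_neg, one_mul]
    have h2 := hz _ (mul_mem (hmem x hx) hsp) hw
    have h4 : ∀ i j, z.1 i j * ![(η : F), ((η⁻¹ : Fˣ) : F)] j =
        ![(η : F), ((η⁻¹ : Fˣ) : F)] i * z.1 i j := by
      intro i j
      have := gl_congr h1 i j
      simpa only [Units.val_mul, dg_val, Matrix.mul_diagonal, Matrix.diagonal_mul] using this
    have hne : (η : F) ≠ ((η⁻¹ : Fˣ) : F) := fun h => hη2 (Units.ext h)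
    have e01 : z.1 0 1 = 0 := by
      by_contra h
      have := h4 0 1
      rw [mul_comm] at this
      exact hne (mul_right_cancel₀ h this).symm
    have e10 : z.1 1 0 = 0 := by
      by_contra h
      have := h4 1 0
      rw [mul_comm] at this
      exact hne (mul_right_cancel₀ h this)
    obtain ⟨p, rfl⟩ := exists_diag e01 e10
    have h5 : dg (p * x) * sp = dg (x * p.swap) * sp := by
      rw [map_mul, map_mul, mul_assoc, h2, mul_assoc, sp_dg, ← mul_assoc]
    have h6 : p.1 * x.1 = x.1 * p.2 := congrArg Prod.fst (dg_injective (mul_right_cancel h5))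
    rw [mul_comm x.1] at h6
    refine ⟨p.1, ?_⟩
    rw [dg_val, ← mul_right_cancel h6, Matrix.scalar_apply]
    congr 1
    funext i
    fin_cases i <;> rfl
  · rw [dg_det, mul_inv_cancel]
  · rintro ⟨c, hc⟩
    rw [dg_val] at hc
    have e0 := congrFun (congrFun hc 0) 0
    have e1 := congrFun (congrFun hc 1) 1
    simp [Matrix.scalar_apply] at e0 e1
    exact hη2 (Units.ext (by rw [e0]; push_cast; rw [e1]))
  · refine ⟨_, hm, Or.inl (Units.ext ?_)⟩
    rw [dg_val]
    ext i j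
    fin_cases i <;> fin_cases j <;> simp

theorem base_map (P : GL (Fin 2) F) {W : Subgroup (GL (Fin 2) F)} (h : Base W) :
    Base (W.map (MulAut.conj P).toMonoidHom) := by
  obtain ⟨h1, h2, ⟨w, hw, hwd, hws⟩, h4⟩ := h
  have hm : ∀ z, z ∈ W → P * z * P⁻¹ ∈ W.map (MulAut.conj P).toMonoidHom := fun z hz => ⟨z, hz, rfl⟩
  have hdet : ∀ z : GL (Fin 2) F,
      Matrix.GeneralLinearGroup.det (P * z * P⁻¹) = Matrix.GeneralLinearGroup.det z := fun z => by
    rw [map_mul, map_mul, map_inv, mul_inv_cancel_comm]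
  have hscal : ∀ z : GL (Fin 2) F, IsScal z → P * z * P⁻¹ = z := fun z hz => by
    rw [← hz.commute P, mul_inv_cancel_right]
  refine ⟨fun a ha ⟨r, hr, har⟩ => ?_, fun x hx => ?_, ⟨_, hm w hw, (hdet w).trans hwd, ?_⟩, ?_⟩
  · have hs := h1 (P⁻¹ * a * P) (fun z hz => by
        obtain ⟨y, hy, e⟩ := ha _ (hm z hz)
        have e' : P * y * P⁻¹ = a * (P * z * P⁻¹) * a⁻¹ := e
        have : P⁻¹ * a * P * z * (P⁻¹ * a * P)⁻¹ = y := by
          calc P⁻¹ * a * P * z * (P⁻¹ * a * P)⁻¹ = P⁻¹ * (a * (P * z * P⁻¹) * a⁻¹) * P := by group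
            _ = y := by rw [← e']; group
        rw [this]; exact hy)
      ⟨r, hr, by
        have := conj_pow (a := P⁻¹) (b := a) (i := r)
        rw [inv_inv] at this
        rw [this, har, mul_one, inv_mul_cancel]⟩
    have := hscal _ hs
    rw [show P * (P⁻¹ * a * P) * P⁻¹ = a by group] at this
    rw [this]; exact hs
  · have hs := h2 (P⁻¹ * x * P) fun z hz hd => by
      have := hx _ (hm z hz) ((hdet z).trans hd)
      calc P⁻¹ * x * P * z = P⁻¹ * (x * (P * z * P⁻¹)) * P := by group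
        _ = z * (P⁻¹ * x * P) := by rw [this]; group
    have := hscal _ hs
    rw [show P * (P⁻¹ * x * P) * P⁻¹ = x by group] at this
    rwa [← this] at hs
  · intro hs
    have e : P⁻¹ * (P * w * P⁻¹) * P = P * w * P⁻¹ := by
      rw [← hs.commute P⁻¹]; group
    rw [show P⁻¹ * (P * w * P⁻¹) * P = w by group] at e
    rw [← e] at hs
    exact hws hs
  · refine ⟨_, h4, ?_⟩
    show P * (-1) * P⁻¹ = -1
    simp

/-! ### The two-part of the order -/

theorem v2_odd_pow_add {q : ℕ} (h1 : 1 < q) (hq : q % 2 = 1) (j : ℕ) :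
    (q ^ (2 * j + 1) + 1).factorization 2 = (q + 1).factorization 2 := by
  have hA := v2_pow_sub_add h1 hq (m := 2 * j + 1) (by omega)
  rw [Nat.factorization_eq_zero_of_not_dvd (show ¬ 2 ∣ 2 * j + 1 by omega)] at hA
  have hg := val_geom (q := q) (Nat.odd_iff.2 hq) (by omega) (j := 0) (t := 2 * j + 1) ⟨j, rfl⟩
  simp only [pow_zero, one_mul, pow_one, ← Nat.factorization_def _ Nat.prime_two] at hg
  rw [tq, v2_mul (by omega) (by omega)] at hA
  omega

theorem guTerm_ne_zero {q : ℕ} (h1 : 1 < q) (i : ℕ) :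
    (if Even i then q ^ (i + 1) + 1 else q ^ (i + 1) - 1) ≠ 0 := by
  have : q ≤ q ^ (i + 1) := Nat.le_self_pow (by omega) q
  split_ifs <;> omega

theorem v2_guProd {q : ℕ} (h1 : 1 < q) (hq : q % 2 = 1) (m : ℕ) :
    (∏ i ∈ Finset.range (2 * m), (if Even i then q ^ (i + 1) + 1 else q ^ (i + 1) - 1)).factorization 2 =
      m * ((q + 1).factorization 2 + tq q) + m.factorial.factorization 2 := by
  induction m with
  | zero => simp
  | succ m ih =>
    rw [show 2 * (m + 1) = 2 * m + 1 + 1 by ring, Finset.prod_range_succ, Finset.prod_range_succ,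
      v2_mul (mul_ne_zero (Finset.prod_ne_zero_iff.2 fun i _ => guTerm_ne_zero h1 i)
        (guTerm_ne_zero h1 _)) (guTerm_ne_zero h1 _),
      v2_mul (Finset.prod_ne_zero_iff.2 fun i _ => guTerm_ne_zero h1 i) (guTerm_ne_zero h1 _), ih,
      if_pos (even_two_mul m), if_neg (by simp [parity_simps]), v2_odd_pow_add h1 hq,
      show 2 * m + 1 + 1 = 2 * (m + 1) by ring, v2_pow_sub h1 hq (by omega), Nat.factorial_succ,
      v2_mul (by omega) m.factorial_ne_zero, Nat.succ_mul]
    omega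

theorem v2_card_Gam [Fintype F] {q : ℕ} (hF : Fintype.card F = q ^ 2) (hq : q % 2 = 1) (ι : Type*)
    [Fintype ι] [DecidableEq ι] (m : ℕ) (hι : Fintype.card ι = 2 * m) :
    (Nat.card (Gam hF ι)).factorization 2 =
      m * ((q + 1).factorization 2 + tq q) + m.factorial.factorization 2 := by
  have h1 := Unitary.one_lt_q hF
  rw [card_Gam, hι, v2_mul (pow_ne_zero _ (by omega))
    (Finset.prod_ne_zero_iff.2 fun i _ => guTerm_ne_zero h1 i), v2_pow_odd hq, zero_add,
    v2_guProd h1 hq]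

/-- The Sylow 2-subgroup of `GU 2`. -/
theorem exists_base [Fintype F] {q : ℕ} (hF : Fintype.card F = q ^ 2) (hq : q % 2 = 1) :
    ∃ W : Subgroup (GL (Fin 2) F), W ≤ Gam hF (Fin 2) ∧ Base W ∧
      Nat.card W = 2 ^ (Nat.card (Gam hF (Fin 2))).factorization 2 := by
  classical
  haveI : Fact (Nat.Prime 2) := ⟨Nat.prime_two⟩
  have h1 := Unitary.one_lt_q hF
  have hval := v2_card_Gam hF hq (Fin 2) 1 (by simp)
  rw [one_mul, Nat.factorial_one, Nat.factorization_one, Finsupp.zero_apply, add_zero] at hval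
  have htq : tq q = (q - 1).factorization 2 + (q + 1).factorization 2 := v2_mul (by omega) (by omega)
  have hcard : Nat.card Fˣ = (q - 1) * (q + 1) := by
    rw [Nat.card_units, Nat.card_eq_fintype_card, hF, mul_comm, ← Nat.sq_sub_sq, one_pow]
  have hzeta : ∀ N : ℕ, N ∣ Nat.card Fˣ → ∃ ζ : Fˣ, orderOf ζ = N := by
    intro N hN
    obtain ⟨g, hg⟩ := IsCyclic.exists_generator (α := Fˣ)
    obtain ⟨c, hc⟩ := hN
    refine ⟨g ^ c, ?_⟩
    have hN0 : 0 < N := Nat.pos_of_ne_zero fun z => by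
      rw [z, zero_mul] at hc; exact Nat.card_pos.ne' hc
    have hc0 : c ≠ 0 := fun z => by rw [z, mul_zero] at hc; exact Nat.card_pos.ne' hc
    rw [orderOf_pow' g hc0, orderOf_eq_card_of_forall_mem_zpowers hg, hc,
      Nat.gcd_eq_right (dvd_mul_left c N), Nat.mul_div_cancel _ (Nat.pos_of_ne_zero hc0)]
  have hneg : ∀ (ζ : Fˣ) (t : ℕ), 1 ≤ t → orderOf ζ = 2 ^ t → ζ ^ 2 ^ (t - 1) = -1 := by
    intro ζ t ht ho
    have hsq : ((ζ ^ 2 ^ (t - 1) : Fˣ) : F) * (ζ ^ 2 ^ (t - 1) : Fˣ) = 1 := by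
      rw [← Units.val_mul, ← pow_add, ← two_mul, ← pow_succ', Nat.sub_add_cancel ht, ← ho,
        pow_orderOf_eq_one, Units.val_one]
    rcases mul_self_eq_one_iff.1 hsq with h | h
    · exfalso
      have := orderOf_dvd_of_pow_eq_one (Units.ext h : ζ ^ 2 ^ (t - 1) = 1)
      rw [ho, Nat.pow_dvd_pow_iff_le_right (by norm_num)] at this
      omega
    · exact Units.ext h
  rcases (show q % 4 = 1 ∨ q % 4 = 3 by omega) with h4 | h4
  · -- a torus of order `q² - 1`
    have hs : (q + 1).factorization 2 = 1 := v2_of_mod_four (by omega)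
    have hr : 2 ≤ (q - 1).factorization 2 :=
      (Nat.prime_two.pow_dvd_iff_le_factorization (by omega)).1 (by norm_num; omega)
    set t := tq q with ht
    have ht3 : 3 ≤ t := by rw [htq, hs]; omega
    obtain ⟨ζ, hζ⟩ := hzeta (2 ^ t) (by rw [hcard]; exact Nat.ordProj_dvd _ 2)
    have hζq : (ζ ^ q) ^ q = ζ := Units.ext (by push_cast; exact Unitary.pow_q_q hF _)
    have hndvd : ∀ N : ℕ, N ≠ 0 → N.factorization 2 < t → ζ ^ N ≠ 1 := by
      intro N hN hlt h
      have := orderOf_dvd_of_pow_eq_one h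
      rw [hζ, Nat.prime_two.pow_dvd_iff_le_factorization hN] at this
      omega
    set S : Subgroup (Fˣ × Fˣ) := Subgroup.zpowers (ζ, (ζ ^ q)⁻¹) with hSdef
    have hS : ∀ p ∈ S, p.swap ∈ S := by
      intro p hp
      obtain ⟨i, rfl⟩ := Subgroup.mem_zpowers_iff.1 hp
      have hgen : ((ζ ^ q)⁻¹, ζ) = ((ζ, (ζ ^ q)⁻¹) ^ q)⁻¹ := by
        ext1
        · rfl
        · show ζ = (((ζ ^ q)⁻¹) ^ q)⁻¹
          rw [inv_pow, inv_inv, hζq]
      have hswap : ((ζ, (ζ ^ q)⁻¹) ^ i).swap = ((ζ ^ q)⁻¹, ζ) ^ i := by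
        rw [Prod.pow_def, Prod.pow_def]; rfl
      rw [hswap, hgen]
      exact zpow_mem (inv_mem (pow_mem (Subgroup.mem_zpowers _) q)) i
    have hord : orderOf ((ζ, (ζ ^ q)⁻¹) : Fˣ × Fˣ) = 2 ^ t := by
      rw [Prod.orderOf_mk, orderOf_inv, hζ]
      refine Nat.lcm_eq_left_iff_dvd.2 ?_
      have := orderOf_pow_dvd (x := ζ) q
      rwa [hζ] at this
    have hSP : IsPGroup 2 S := IsPGroup.of_card (n := t) (by rw [hSdef, Nat.card_zpowers, hord])
    obtain ⟨a, ha⟩ := Unitary.norm_surj hF (y := (-1 : F)) (by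
      rw [Unitary.neg_pow_q hF, one_pow])
    obtain ⟨c, hc⟩ := Unitary.trace_surj hF (y := (1 : F)) (one_pow q)
    have ha0 : a ≠ 0 := fun z => by
      rw [z, zero_mul] at ha; exact neg_ne_zero.2 one_ne_zero ha.symm
    let P : GL (Fin 2) F := Matrix.GeneralLinearGroup.mkOfDetNeZero !![1, c; a, a * (c - 1)] (by
      rw [Matrix.det_fin_two_of]
      intro h
      exact ha0 (by linear_combination -h))
    have hP : star' hF P.1 * P.1 = !![0, 1; 1, 0] := by
      show star' hF !![1, c; a, a * (c - 1)] * !![1, c; a, a * (c - 1)] = _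
      ext i j
      fin_cases i <;> fin_cases j <;>
        simp [star', Matrix.mul_apply, Fin.sum_univ_two, mul_pow, Unitary.sub_pow_q hF]
      · linear_combination ha
      · linear_combination (c - 1) * ha
      · linear_combination (c ^ q - 1) * ha
      · linear_combination (c ^ q - 1) * (c - 1) * ha + hc
    -- membership in the unitary group after conjugation
    have hkey : ∀ x : GL (Fin 2) F, star' hF x.1 * !![0, 1; 1, 0] * x.1 = !![0, 1; 1, 0] →
        P * x * P⁻¹ ∈ Gam hF (Fin 2) := by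
      intro x hx
      show star' hF (P * x * P⁻¹).1 * (P * x * P⁻¹).1 = 1
      rw [Units.val_mul, Units.val_mul, star'_mul, star'_mul]
      calc star' hF (P⁻¹ : GL (Fin 2) F).1 * (star' hF x.1 * star' hF P.1) *
            (P.1 * x.1 * (P⁻¹ : GL (Fin 2) F).1)
          = star' hF (P⁻¹ : GL (Fin 2) F).1 * (star' hF x.1 * (star' hF P.1 * P.1) * x.1) *
              (P⁻¹ : GL (Fin 2) F).1 := by simp only [Matrix.mul_assoc]
        _ = star' hF (P⁻¹ : GL (Fin 2) F).1 * (star' hF P.1 * P.1) *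
              (P⁻¹ : GL (Fin 2) F).1 := by rw [hP, hx]
        _ = star' hF (P.1 * (P⁻¹ : GL (Fin 2) F).1) * (P.1 * (P⁻¹ : GL (Fin 2) F).1) := by
              rw [star'_mul]; simp only [Matrix.mul_assoc]
        _ = 1 := by rw [← Units.val_mul, mul_inv_cancel, Units.val_one, star'_one, mul_one]
    refine ⟨(W2 S hS).map (MulAut.conj P).toMonoidHom, ?_, base_map P ?_, ?_⟩
    · rintro _ ⟨x, hx, rfl⟩
      show P * x * P⁻¹ ∈ Gam hF (Fin 2)
      have hgen : ∀ p ∈ S, ((p.1 : F) ^ q) * p.2 = 1 := by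
        intro p hp
        let φ : Fˣ × Fˣ →* Fˣ :=
          ((powMonoidHom q).comp (MonoidHom.fst _ _)) * MonoidHom.snd _ _
        have hle : S ≤ φ.ker := Subgroup.zpowers_le.2 (mul_inv_cancel (ζ ^ q))
        have := congrArg Units.val (MonoidHom.mem_ker.1 (hle hp))
        simpa [φ] using this
      have hd : ∀ p ∈ S, P * dg p * P⁻¹ ∈ Gam hF (Fin 2) := by
        intro p hp
        refine hkey _ ?_
        rw [dg_val]
        have e1 := hgen p hp
        have e2 : (p.2 : F) ^ q * p.1 = 1 := hgen _ (hS p hp)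
        ext i j
        fin_cases i <;> fin_cases j <;>
          simp [star', Matrix.mul_apply, Fin.sum_univ_two, Unitary.zero_pow_q hF, e1, e2]
      have hspG : P * sp * P⁻¹ ∈ Gam hF (Fin 2) := by
        refine hkey _ ?_
        ext i j
        fin_cases i <;> fin_cases j <;>
          simp [star', sp, Matrix.mul_apply, Fin.sum_univ_two, Unitary.zero_pow_q hF]
      obtain ⟨p, hp, rfl | rfl⟩ := hx
      · exact hd p hp
      · rw [show P * (dg p * sp) * P⁻¹ = (P * dg p * P⁻¹) * (P * sp * P⁻¹) by group]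
        exact mul_mem (hd p hp) hspG
    · have hm : ((-1 : Fˣ), (-1 : Fˣ)) ∈ S := by
        have he := hneg ζ t (by omega) hζ
        have hqo : Odd q := Nat.odd_iff.2 hq
        have e : ((ζ, (ζ ^ q)⁻¹) : Fˣ × Fˣ) ^ 2 ^ (t - 1) = (-1, -1) := by
          rw [Prod.pow_mk, he, inv_pow, ← pow_mul, mul_comm, pow_mul, he, hqo.neg_one_pow]
          simp
        rw [← e]; exact pow_mem (Subgroup.mem_zpowers _) _
      have hx1 : ζ * (ζ ^ q)⁻¹ = -1 := by
        have e1 : ζ ^ q = ζ ^ (q - 1) * ζ := by rw [← pow_succ, Nat.sub_add_cancel (by omega)]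
        have e2 : (ζ ^ (q - 1)) ^ 2 = 1 := by
          rw [← pow_mul]
          refine orderOf_dvd_iff_pow_eq_one.1 ?_
          rw [hζ, Nat.prime_two.pow_dvd_iff_le_factorization (by omega),
            v2_mul (by omega) (by norm_num), v2_two]
          omega
        have e3 : ζ ^ (q - 1) ≠ 1 := hndvd _ (by omega) (by omega)
        rw [e1, _root_.mul_inv_rev, mul_inv_cancel_left]
        have hsq : ((ζ ^ (q - 1) : Fˣ) : F) * (ζ ^ (q - 1) : Fˣ) = 1 := by
          rw [← Units.val_mul, ← pow_two, e2, Units.val_one]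
        rcases mul_self_eq_one_iff.1 hsq with h | h
        · exact absurd (Units.ext h) e3
        · rw [show ζ ^ (q - 1) = -1 from Units.ext h]; simp
      refine base_W2 S hS hSP (ζ, (ζ ^ q)⁻¹) (Subgroup.mem_zpowers _) ?_ (ζ ^ 2) ?_ ?_
        (ζ, (ζ ^ q)⁻¹) (Subgroup.mem_zpowers _) hx1 hm
      · intro h
        rw [inv_pow, eq_inv_iff_mul_eq_one, ← pow_mul, ← pow_add] at h
        refine hndvd _ (by omega) ?_ h
        rw [show 2 + q * 2 = 2 * (q + 1) by ring, v2_mul (by norm_num) (by omega), v2_two, hs]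
        omega
      · have e : ((ζ, (ζ ^ q)⁻¹) : Fˣ × Fˣ) ^ 2 = (ζ ^ 2, (ζ ^ 2)⁻¹) := by
          rw [Prod.pow_mk]
          congr 1
          have : ζ ^ q = -ζ := by
            have h' := mul_inv_eq_iff_eq_mul.1 hx1
            calc ζ ^ q = (-1) * ((-1) * ζ ^ q) := by simp
              _ = -ζ := by rw [← h']; simp
          rw [inv_pow, this]
          simp
        rw [← e]; exact pow_mem (Subgroup.mem_zpowers _) 2
      · intro h
        rw [eq_inv_iff_mul_eq_one, ← pow_add] at h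
        refine hndvd 4 (by norm_num) ?_ h
        rw [show (4 : ℕ) = 2 * 2 by norm_num, v2_mul (by norm_num) (by norm_num), v2_two]
        omega
    · rw [Subgroup.card_map_of_injective (MulAut.conj P).injective, card_W2, hSdef, Nat.card_zpowers,
        hord, hval, hs, pow_add, pow_one]
  · -- monomial matrices in an orthonormal basis
    have hr : (q - 1).factorization 2 = 1 := v2_of_mod_four (by omega)
    set s := (q + 1).factorization 2 with hsdef
    have hs2 : 2 ≤ s :=
      (Nat.prime_two.pow_dvd_iff_le_factorization (by omega)).1 (by norm_num; omega)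
    obtain ⟨ζ, hζ⟩ := hzeta (2 ^ s) (by
      rw [hcard]; exact dvd_mul_of_dvd_right (Nat.ordProj_dvd _ 2) _)
    set S : Subgroup (Fˣ × Fˣ) := (Subgroup.zpowers ζ).prod (Subgroup.zpowers ζ) with hSdef
    have hS : ∀ p ∈ S, p.swap ∈ S := fun p hp => ⟨hp.2, hp.1⟩
    have hScard : Nat.card S = 2 ^ (s + s) := by
      rw [hSdef, Nat.card_congr ((Subgroup.zpowers ζ).prodEquiv (Subgroup.zpowers ζ)).toEquiv,
        Nat.card_prod, Nat.card_zpowers, hζ, pow_add]
    have hnorm : ∀ z ∈ Subgroup.zpowers ζ, (z : F) ^ q * z = 1 := by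
      intro z hz
      have hle : Subgroup.zpowers ζ ≤ (powMonoidHom (q + 1) : Fˣ →* Fˣ).ker := by
        refine Subgroup.zpowers_le.2 (orderOf_dvd_iff_pow_eq_one.1 ?_)
        rw [hζ]; exact Nat.ordProj_dvd _ 2
      have := congrArg Units.val (MonoidHom.mem_ker.1 (hle hz))
      rw [← pow_succ]
      simpa using this
    refine ⟨W2 S hS, ?_, base_W2 S hS (IsPGroup.of_card hScard) (ζ, 1)
      (Subgroup.mem_prod.2 ⟨Subgroup.mem_zpowers _, one_mem _⟩) ?_ ζ
      (Subgroup.mem_prod.2 ⟨Subgroup.mem_zpowers _, inv_mem (Subgroup.mem_zpowers _)⟩) ?_ (-1, 1) ?_ (mul_one _) ?_, ?_⟩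
    · have hd : ∀ p ∈ S, (dg p : GL (Fin 2) F) ∈ Gam hF (Fin 2) := by
        intro p hp
        show star' hF (dg p : GL (Fin 2) F).1 * (dg p : GL (Fin 2) F).1 = 1
        rw [dg_val]
        ext i j
        fin_cases i <;> fin_cases j <;>
          simp [star', Matrix.mul_apply, Fin.sum_univ_two, Unitary.zero_pow_q hF, hnorm _ hp.1,
            hnorm _ hp.2]
      have hspG : (sp : GL (Fin 2) F) ∈ Gam hF (Fin 2) := by
        show star' hF !![0, 1; 1, 0] * !![0, 1; 1, 0] = 1
        ext i j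
        fin_cases i <;> fin_cases j <;>
          simp [star', Matrix.mul_apply, Fin.sum_univ_two, Unitary.zero_pow_q hF]
      rintro _ ⟨p, hp, rfl | rfl⟩
      · exact hd p hp
      · exact mul_mem (hd p hp) hspG
    · intro h
      have := orderOf_dvd_of_pow_eq_one (show ζ ^ 2 = 1 by simpa using h)
      rw [hζ, Nat.prime_two.pow_dvd_iff_le_factorization (by norm_num), v2_two] at this
      omega
    · intro h
      have := orderOf_dvd_of_pow_eq_one (show ζ ^ 2 = 1 by rw [pow_two]; exact eq_inv_iff_mul_eq_one.1 h)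
      rw [hζ, Nat.prime_two.pow_dvd_iff_le_factorization (by norm_num), v2_two] at this
      omega
    · exact ⟨hneg ζ s (by omega) hζ ▸ pow_mem (Subgroup.mem_zpowers _) _, one_mem _⟩
    · have := hneg ζ s (by omega) hζ ▸ pow_mem (Subgroup.mem_zpowers ζ) (2 ^ (s - 1))
      exact ⟨this, this⟩
    · rw [card_W2, hScard, hval, ← pow_succ', htq, hr]
      congr 1
      omega

end Cfsg.Agent.Lib.SUOddIndex52
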