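import Cfsg.Agent.Lib.SUOddIndex52.CharTwo
import Cfsg.Agent.Lib.SUOddIndex52.TwoBase
import Cfsg.Agent.Lib.SLOddIndex.SelfNorm
import Cfsg.Agent.Lib.SLOddIndex.Level
import Mathlib

/-!
Subgroups of odd index of `PSU (2 ^ w)` are pronormal.
-/

set_option autoImplicit false
set_option linter.unusedSectionVars false

namespace Cfsg.Agent.Lib.SUOddIndex52

open Matrix Cfsg.Agent.Lib.SLOddIndex Cfsg.Agent.Lib.SylowOrth52 Cfsg.Agent.Lib.PSLTwo.Sylow

universe v

variable {F : Type v} [Field F] [Fintype F] {q : ℕ} (hF : Fintype.card F = q ^ 2)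

/-- The data of one level. -/
def GoodU (ι : Type) [Fintype ι] [DecidableEq ι] : Prop :=
  ∃ W : Subgroup (GL ι F), W ≤ Gam hF ι ∧
    Nat.card W = 2 ^ (Nat.card (Gam hF ι)).factorization 2 ∧
    (∀ a ∈ Gam hF ι, (∀ w ∈ W, a * w * a⁻¹ ∈ W) → (∃ r : ℕ, r % 2 = 1 ∧ a ^ r = 1) → IsScal a) ∧
    (∀ x : GL ι F, (∀ w ∈ W, Matrix.GeneralLinearGroup.det w = 1 → x * w = w * x) → IsScal x) ∧
    (∃ w ∈ W, Matrix.GeneralLinearGroup.det w = 1 ∧ ¬ IsScal w) ∧ (-1 : GL ι F) ∈ W

/-- The same with normalisers of the determinant one part. -/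
def GoodSU (ι : Type) [Fintype ι] [DecidableEq ι] : Prop :=
  ∃ W : Subgroup (GL ι F), W ≤ Gam hF ι ∧
    Nat.card W = 2 ^ (Nat.card (Gam hF ι)).factorization 2 ∧
    (∀ a ∈ Gam hF ι, (∀ w ∈ W, Matrix.GeneralLinearGroup.det w = 1 →
      a * w * a⁻¹ ∈ W ∧ Matrix.GeneralLinearGroup.det (a * w * a⁻¹) = 1) →
      (∃ r : ℕ, r % 2 = 1 ∧ a ^ r = 1) → IsScal a) ∧
    (∀ x : GL ι F, (∀ w ∈ W, Matrix.GeneralLinearGroup.det w = 1 → x * w = w * x) → IsScal x)

theorem v2_fact_two_mul (m : ℕ) :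
    (2 * m).factorial.factorization 2 = m + m.factorial.factorization 2 := by
  induction m with
  | zero => simp
  | succ m ih =>
    rw [show 2 * (m + 1) = 2 * m + 1 + 1 by ring, Nat.factorial_succ, Nat.factorial_succ,
      v2_mul (by omega) (mul_ne_zero (by omega) (2 * m).factorial_ne_zero),
      v2_mul (by omega) (2 * m).factorial_ne_zero, ih, Nat.factorial_succ m,
      v2_mul (by omega) m.factorial_ne_zero, show 2 * m + 1 + 1 = 2 * (m + 1) by ring,
      v2_mul (by norm_num) (by omega), v2_two,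
      Nat.factorization_eq_zero_of_not_dvd (show ¬ 2 ∣ 2 * m + 1 by omega)]
    ring

theorem v2_fact_two_pow (k : ℕ) : (2 ^ k).factorial.factorization 2 + 1 = 2 ^ k := by
  induction k with
  | zero => simp
  | succ k ih => rw [pow_succ', v2_fact_two_mul]; omega

include hF

theorem step_U (hq : q % 2 = 1) {k : ℕ} {κ : Type} [Fintype κ] [DecidableEq κ]
    (hκ : Fintype.card κ = 2 ^ (k + 1)) (h : GoodU hF κ) :
    GoodU hF (κ ⊕ κ) ∧ GoodSU hF (κ ⊕ κ) := by
  haveI : Fact (Nat.Prime 2) := ⟨Nat.prime_two⟩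
  have hFodd : Fintype.card F % 2 = 1 := by rw [hF, Nat.pow_mod, hq]
  have h2 := two_ne_zero_of_odd (F := F) hFodd
  haveI : Nonempty κ := Fintype.card_pos_iff.1 (by rw [hκ]; exact Nat.two_pow_pos _)
  have heven : Even (Fintype.card κ) := by rw [hκ, Nat.even_pow]; exact ⟨even_two, by omega⟩
  obtain ⟨W, hWΓ, hWc, hN, hC, hns, hm1⟩ := h
  have hWP : IsPGroup 2 W := IsPGroup.of_card hWc
  have hdm1 : Matrix.GeneralLinearGroup.det (-1 : GL κ F) = 1 := by
    apply Units.ext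
    simp [Matrix.GeneralLinearGroup.val_det_apply, Matrix.det_neg, heven.neg_one_pow]
  have m1 : ∀ w ∈ W, emb (w, 1) ∈ W1 W := fun w hw => ⟨w, hw, 1, one_mem _, Or.inl rfl⟩
  have m2 : ∀ w ∈ W, emb (w, w⁻¹) ∈ W1 W := fun w hw => ⟨w, hw, w⁻¹, inv_mem hw, Or.inl rfl⟩
  have m4 : (sw : GL (κ ⊕ κ) F) ∈ W1 W :=
    ⟨1, one_mem _, 1, one_mem _, Or.inr (by
      rw [show emb ((1 : GL κ F), (1 : GL κ F)) = 1 from map_one emb, one_mul])⟩
  have hcard : Nat.card (W1 W) = 2 ^ (Nat.card (Gam hF (κ ⊕ κ))).factorization 2 := by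
    rw [card_W1, hWc, v2_card_Gam hF hq κ (2 ^ k) (by rw [hκ, pow_succ']),
      v2_card_Gam hF hq (κ ⊕ κ) (2 * 2 ^ k) (by rw [Fintype.card_sum, hκ, pow_succ']; ring),
      v2_fact_two_mul, ← pow_add, ← pow_succ']
    congr 1
    have := v2_fact_two_pow k
    rw [mul_assoc]
    omega
  have hemb : ∀ A D : GL κ F, emb (A, D) ∈ Gam hF (κ ⊕ κ) → A ∈ Gam hF κ ∧ D ∈ Gam hF κ :=
    fun A D hAD => (emb_mem_Gam_iff hF A D).1 hAD
  have hcomm : ∀ x : GL (κ ⊕ κ) F,
      (∀ w ∈ W1 W, Matrix.GeneralLinearGroup.det w = 1 → x * w = w * x) → IsScal x := by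
    intro x hx
    refine scal_of_commute h2 hC (fun w hw hd => hx _ (m1 w hw) ?_) (hx _ (m1 _ hm1) ?_)
      (hx _ m4 (det_sw heven))
    · rw [det_emb, hd, map_one, mul_one]
    · rw [det_emb, hdm1, map_one, mul_one]
  refine ⟨⟨W1 W, W1_le_Gam hF hWΓ, hcard, ?_, hcomm, ?_, ?_⟩,
    ⟨W1 W, W1_le_Gam hF hWΓ, hcard, ?_, hcomm⟩⟩
  · rintro a haΓ ha ⟨r, hr, har⟩
    exact scal_of_normalizes_rel h2 hWP _ _ hemb hN hC hns le_rfl (fun w hw _ => m1 w hw) m2
      (m1 _ hm1) m4 haΓ ha hr har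
  · obtain ⟨w, hw, hd, hs⟩ := hns
    refine ⟨emb (w, 1), m1 w hw, by rw [det_emb, hd, map_one, mul_one], fun ⟨c, hc⟩ => hs ⟨c, ?_⟩⟩
    rw [emb_val] at hc
    ext i j
    have := congrFun (congrFun hc (Sum.inl i)) (Sum.inl j)
    simpa [Matrix.scalar_apply, Matrix.diagonal] using this
  · refine ⟨-1, hm1, -1, hm1, Or.inl (Units.ext ?_)⟩
    rw [emb_val, Units.val_neg, Units.val_one, Units.val_neg, Units.val_one, ← Matrix.fromBlocks_one,
      Matrix.fromBlocks_neg, neg_zero]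
  · rintro a haΓ ha ⟨r, hr, har⟩
    refine scal_of_normalizes_rel h2 hWP _ _ hemb hN hC hns (S := W1 W ⊓
        (Matrix.GeneralLinearGroup.det : GL (κ ⊕ κ) F →* Fˣ).ker) inf_le_left
      (fun w hw hd => ⟨m1 w hw, ?_⟩) (fun w hw => ⟨m2 w hw, ?_⟩) ⟨m1 _ hm1, ?_⟩ ⟨m4, det_sw heven⟩
      haΓ (fun x hx => ha x hx.1 hx.2) hr har
    · show Matrix.GeneralLinearGroup.det (emb (w, 1)) = 1
      rw [det_emb, hd, map_one, mul_one]
    · show Matrix.GeneralLinearGroup.det (emb (w, w⁻¹)) = 1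
      rw [det_emb, map_inv, mul_inv_cancel]
    · show Matrix.GeneralLinearGroup.det (emb ((-1 : GL κ F), 1)) = 1
      rw [det_emb, hdm1, map_one, mul_one]

theorem exists_level (hq : q % 2 = 1) : ∀ k : ℕ,
    ∃ (ι : Type) (_ : Fintype ι) (_ : DecidableEq ι),
      Fintype.card ι = 2 ^ (k + 1) ∧ GoodU hF ι ∧ (1 ≤ k → GoodSU hF ι)
  | 0 => by
    obtain ⟨W, hW, ⟨h1, h2, h3, h4⟩, hc⟩ := exists_base hF hq
    exact ⟨Fin 2, inferInstance, inferInstance, by simp,
      ⟨W, hW, hc, fun a _ => h1 a, h2, h3, h4⟩, fun h => absurd h (by omega)⟩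
  | k + 1 => by
    obtain ⟨ι, i1, i2, hι, h, -⟩ := exists_level hq k
    obtain ⟨h1, h2⟩ := step_U hF hq (k := k) hι h
    exact ⟨ι ⊕ ι, inferInstance, inferInstance,
      by rw [Fintype.card_sum, hι, pow_succ _ (k + 1)]; ring, h1, fun _ => h2⟩

theorem isPronormal_PSU_odd (hq : q % 2 = 1) {k : ℕ} (hk : 1 ≤ k) {n : ℕ} (hn : n = 2 ^ (k + 1))
    (H : Subgroup (Cfsg.PSU n F q)) (hH : Odd H.index) : Cfsg.IsPronormal H := by
  haveI : Fact (Nat.Prime 2) := ⟨Nat.prime_two⟩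
  subst hn
  obtain ⟨ι, i1, i2, hι, -, hgood⟩ := exists_level hF hq k
  obtain ⟨W, hWΓ, hWc, hW, hC⟩ := hgood hk
  obtain ⟨e⟩ : Nonempty (Fin (2 ^ (k + 1)) ≃ ι) := ⟨(Fintype.equivFinOfCardEq hι).symm⟩
  let T : Cfsg.SU (2 ^ (k + 1)) F q →* GL ι F :=
    (reGL (F := F) e).toMonoidHom.comp
      (Matrix.SpecialLinearGroup.toGL.comp (Cfsg.SU (2 ^ (k + 1)) F q).subtype)
  have hT : Function.Injective T := (reGL (F := F) e).injective.comp
    (Matrix.SpecialLinearGroup.toGL_injective.comp Subtype.val_injective)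
  have hdetT : ∀ z, Matrix.GeneralLinearGroup.det (T z) = 1 := fun z => by
    show Matrix.GeneralLinearGroup.det (reGL e (Matrix.SpecialLinearGroup.toGL z.1)) = 1
    rw [det_reGL]
    exact Units.ext (by simp)
  have hGamT : ∀ z, T z ∈ Gam hF ι := by
    intro z
    have h := (preserving_iff_star' hF z.1.1).1 z.2
    show star' hF (Matrix.reindex e e z.1.1) * Matrix.reindex e e z.1.1 = 1
    rw [star', Matrix.reindex_apply, ← Matrix.submatrix_map, Matrix.transpose_submatrix,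
      Matrix.submatrix_mul_equiv, show (z.1.1.map (Unitary.conj hF))ᵀ * z.1.1 = 1 from h,
      Matrix.submatrix_one_equiv]
  have hsurj : ∀ w ∈ Gam hF ι, Matrix.GeneralLinearGroup.det w = 1 → ∃ z, T z = w := by
    intro w hw hd
    set M : Matrix (Fin (2 ^ (k + 1))) (Fin (2 ^ (k + 1))) F := w.1.submatrix e e with hM
    have hMd : M.det = 1 := by
      rw [hM, Matrix.det_submatrix_equiv_self, ← Matrix.GeneralLinearGroup.val_det_apply, hd,
        Units.val_one]
    have hMu : star' hF M * M = 1 := by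
      rw [hM, star', ← Matrix.submatrix_map, Matrix.transpose_submatrix, Matrix.submatrix_mul_equiv,
        show (w.1.map (Unitary.conj hF))ᵀ * w.1 = 1 from hw, Matrix.submatrix_one_equiv]
    refine ⟨⟨⟨M, hMd⟩, (preserving_iff_star' hF M).2 hMu⟩, Units.ext ?_⟩
    show Matrix.reindex e e M = w.1
    rw [hM, Matrix.reindex_apply, Matrix.submatrix_submatrix]
    simp
  let π := QuotientGroup.mk' (Subgroup.center (Cfsg.SU (2 ^ (k + 1)) F q))
  have hscal : ∀ z, IsScal (T z) → z ∈ Subgroup.center (Cfsg.SU (2 ^ (k + 1)) F q) := by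
    intro z hz
    rw [Subgroup.mem_center_iff]
    intro y
    exact hT (by rw [map_mul, map_mul, hz.commute (T y)])
  have hker : ∀ z ∈ π.ker, ∃ j, z ^ 2 ^ j = 1 := by
    intro z hz
    rw [QuotientGroup.ker_mk', Subgroup.mem_center_iff] at hz
    obtain ⟨c, hc⟩ := hC (T z) fun w hw hd => by
      obtain ⟨y, rfl⟩ := hsurj w (hWΓ hw) hd
      rw [← map_mul, ← map_mul, hz y]
    refine ⟨k + 1, hT (Units.ext ?_)⟩
    have hd := congrArg Units.val (hdetT z)
    rw [Matrix.GeneralLinearGroup.val_det_apply, hc, Matrix.scalar_apply, Matrix.det_diagonal,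
      Finset.prod_const, Finset.card_univ, hι, Units.val_one] at hd
    rw [map_pow, Units.val_pow_eq_pow_val, hc, ← map_pow, hd, map_one, map_one, Units.val_one]
  -- the Sylow subgroup of `SU`
  set P0 : Subgroup (Cfsg.SU (2 ^ (k + 1)) F q) := W.comap T with hP0
  have hidx : ¬ 2 ∣ P0.index := by
    have hP0c : Nat.card P0 = Nat.card ((Matrix.GeneralLinearGroup.det.comp W.subtype).ker) := by
      refine Nat.card_eq_of_bijective (fun z : P0 => ⟨⟨T z.1, z.2⟩, hdetT z.1⟩) ⟨?_, ?_⟩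
      · intro a b h
        exact Subtype.ext (hT (congrArg (fun x => x.1.1) h))
      · rintro ⟨⟨w, hw⟩, hd⟩
        obtain ⟨z, rfl⟩ := hsurj w (hWΓ hw) hd
        exact ⟨⟨z, hw⟩, rfl⟩
    have hWP : IsPGroup 2 W := IsPGroup.of_card hWc
    set f : W →* Fˣ := Matrix.GeneralLinearGroup.det.comp W.subtype with hf
    have hsplit : Nat.card W = Nat.card f.range * Nat.card f.ker := by
      rw [Subgroup.card_eq_card_quotient_mul_card_subgroup f.ker,
        Nat.card_congr (QuotientGroup.quotientKerEquivRange f).toEquiv]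
    have hrle : f.range ≤ (Unitary.normHom F q).ker := by
      rintro _ ⟨w, rfl⟩
      rw [MonoidHom.mem_ker]
      apply Units.ext
      have h := congrArg Matrix.det ((mem_Gam hF).1 (hWΓ w.2))
      rw [Matrix.det_mul, star', Matrix.det_transpose, Matrix.det_one] at h
      have hmap : (w.1.1.map (Unitary.conj hF)).det = Unitary.conj hF w.1.1.det := by
        rw [RingHom.map_det, RingHom.mapMatrix_apply]
      rw [hmap, Unitary.conj_apply, ← pow_succ] at h
      simpa [Unitary.normHom, hf] using h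
    have h1 := Unitary.one_lt_q hF
    have hrp : ∃ j, Nat.card f.range = 2 ^ j ∧ j ≤ (q + 1).factorization 2 := by
      obtain ⟨j, hj⟩ := IsPGroup.iff_card.1 (hWP.of_surjective f.rangeRestrict f.rangeRestrict_surjective)
      refine ⟨j, hj, ?_⟩
      have := Subgroup.card_dvd_of_le hrle
      rw [hj, (Unitary.card_normHom hF).1] at this
      exact (Nat.prime_two.pow_dvd_iff_le_factorization (by omega)).1 this
    obtain ⟨j, hj, hjs⟩ := hrp
    obtain ⟨i, hi⟩ := IsPGroup.iff_card.1 (hWP.to_subgroup f.ker)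
    rw [hWc, hj, hi, ← pow_add] at hsplit
    have hsum := Nat.pow_right_injective le_rfl hsplit
    have hGam : Nat.card (Gam hF ι) = Nat.card (Cfsg.GU (2 ^ (k + 1)) F q) := by
      rw [← card_Gam_reindex hF e, Gam_eq_GU]
    have hSU := Unitary.card_SU (n := 2 ^ (k + 1)) hF Nat.one_le_two_pow
    rw [← hGam] at hSU
    have hSUne : Nat.card (Cfsg.SU (2 ^ (k + 1)) F q) ≠ 0 := Nat.card_pos.ne'
    have hv : (Nat.card (Gam hF ι)).factorization 2 =
        (q + 1).factorization 2 + (Nat.card (Cfsg.SU (2 ^ (k + 1)) F q)).factorization 2 := by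
      rw [← hSU, v2_mul (by omega) hSUne]
    have hidxmul := P0.card_mul_index
    rw [hP0c, hi] at hidxmul
    intro hdvd
    have h3 : 2 ^ (i + 1) ∣ Nat.card (Cfsg.SU (2 ^ (k + 1)) F q) := by
      rw [← hidxmul, pow_succ]; exact Nat.mul_dvd_mul_left _ hdvd
    have := (Nat.prime_two.pow_dvd_iff_le_factorization hSUne).1 h3
    omega
  have hP0p : IsPGroup 2 P0 := (IsPGroup.of_card hWc).comap_of_injective T hT
  let P : Sylow 2 (Cfsg.SU (2 ^ (k + 1)) F q) := hP0p.toSylow hidx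
  refine isPronormal_of_odd_trivial π (QuotientGroup.mk'_surjective _) hker P
    (fun b hb r hr hbr => ?_) H hH
  rw [QuotientGroup.ker_mk']
  refine hscal b (hW (T b) (hGamT b) (fun w hw hd => ?_) ⟨r, hr, by rw [← map_pow, hbr, map_one]⟩)
  obtain ⟨z, rfl⟩ := hsurj w (hWΓ hw) hd
  rw [← map_inv, ← map_mul, ← map_mul]
  exact ⟨hb z hw, hdetT _⟩

theorem isPronormal_PSU_even (hq : 2 ∣ q) (m : ℕ) (H : Subgroup (Cfsg.PSU (m + m) F q))
    (hH : Odd H.index) : Cfsg.IsPronormal H := by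
  haveI : Fact (Nat.Prime 2) := ⟨Nat.prime_two⟩
  haveI : CharP F 2 := by
    obtain ⟨p, l, hp, hc, -, hql⟩ := Unitary.q_eq_primePow hF
    subst hql
    obtain rfl : p = 2 :=
      ((Nat.prime_dvd_prime_iff_eq Nat.prime_two hp).1 (Nat.prime_two.dvd_of_dvd_pow hq)).symm
    exact hc
  obtain ⟨P, hP⟩ := exists_antidiag_basis hF m
  set J : Matrix (Fin (m + m)) (Fin (m + m)) F :=
    (1 : Matrix (Fin (m + m)) (Fin (m + m)) F).submatrix Fin.revPerm id with hJ
  have hJv : star' hF P.1 * P.1 = J := hP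
  have hJJ : J * J = 1 := by
    ext i j
    simp [hJ, Matrix.mul_apply, Matrix.one_apply]
    rw [Finset.sum_eq_single i.rev]
    · simp
    · intro b _ hb
      simp [Ne.symm hb]
    · simp
  have hJtw : ∀ M : Matrix (Fin (m + m)) (Fin (m + m)) F, twist hF M = J * star' hF M * J := by
    intro M
    ext i j
    rw [twist_apply]
    simp [hJ, star', Matrix.mul_apply, Matrix.one_apply]
    by_cases h : i = j <;> simp [Fin.rev_eq_iff]
  let φ : GJ hF (m + m) →* Cfsg.SU (m + m) F q :=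
    MonoidHom.mk' (fun x => ⟨⟨(P * x.1 * P⁻¹).1, by
      rw [← Matrix.GeneralLinearGroup.val_det_apply, map_mul, map_mul, map_inv,
        mul_inv_cancel_comm, (mem_GJ.1 x.2).2, Units.val_one]⟩, by
      refine (preserving_iff_star' hF _).2 ?_
      have hx := (theta_eq_iff hF x.1).1 (mem_GJ.1 x.2).1
      rw [hJtw] at hx
      have hx' : star' hF x.1.1 * J * x.1.1 = J := by
        calc star' hF x.1.1 * J * x.1.1 = J * J * (star' hF x.1.1 * J * x.1.1) := by
              rw [hJJ, Matrix.one_mul]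
          _ = J * (J * star' hF x.1.1 * J * x.1.1) := by simp only [Matrix.mul_assoc]
          _ = J := by rw [hx, Matrix.mul_one]
      show star' hF (P * x.1 * P⁻¹ : GL (Fin (m + m)) F).1 *
        (P * x.1 * P⁻¹ : GL (Fin (m + m)) F).1 = 1
      rw [Units.val_mul, Units.val_mul, star'_mul, star'_mul]
      calc star' hF (P⁻¹ : GL _ F).1 * (star' hF x.1.1 * star' hF P.1) *
            (P.1 * x.1.1 * (P⁻¹ : GL _ F).1)
          = star' hF (P⁻¹ : GL _ F).1 * (star' hF x.1.1 * (star' hF P.1 * P.1) * x.1.1) *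
              (P⁻¹ : GL _ F).1 := by simp only [Matrix.mul_assoc]
        _ = star' hF (P⁻¹ : GL _ F).1 * (star' hF P.1 * P.1) *
              (P⁻¹ : GL _ F).1 := by rw [hJv, hx']
        _ = star' hF (P.1 * (P⁻¹ : GL _ F).1) * (P.1 * (P⁻¹ : GL _ F).1) := by
              rw [star'_mul]; simp only [Matrix.mul_assoc]
        _ = 1 := by rw [← Units.val_mul, mul_inv_cancel, Units.val_one, star'_one, Matrix.mul_one]⟩)
      fun x y => Subtype.ext (Subtype.ext (by
        show (P * (x.1 * y.1) * P⁻¹).1 = (P * x.1 * P⁻¹).1 * (P * y.1 * P⁻¹).1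
        rw [← Units.val_mul]; congr 1; group))
  let π : GJ hF (m + m) →* Cfsg.PSU (m + m) F q := (QuotientGroup.mk' _).comp φ
  have hφ : Function.Surjective φ := by
    intro y
    set Y : GL (Fin (m + m)) F := Matrix.SpecialLinearGroup.toGL y.1 with hY
    have hYd : Matrix.GeneralLinearGroup.det Y = 1 := Units.ext (by simp [hY])
    have hYu : star' hF Y.1 * Y.1 = 1 := (preserving_iff_star' hF _).1 y.2
    refine ⟨⟨P⁻¹ * Y * P, mem_GJ.2 ⟨(theta_eq_iff hF _).2 ?_, ?_⟩⟩, Subtype.ext (Subtype.ext ?_)⟩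
    · rw [hJtw, Units.val_mul, Units.val_mul, star'_mul, star'_mul, ← hJv]
      have hPi : star' hF (P⁻¹ : GL _ F).1 * (star' hF P.1 * P.1) * (P⁻¹ : GL _ F).1 = 1 := by
        rw [Matrix.mul_assoc, Matrix.mul_assoc, ← Units.val_mul, mul_inv_cancel, Units.val_one,
          Matrix.mul_one, ← star'_mul, ← Units.val_mul, mul_inv_cancel, Units.val_one, star'_one]
      calc star' hF P.1 * P.1 * (star' hF P.1 * (star' hF Y.1 * star' hF (P⁻¹ : GL _ F).1)) *
            (star' hF P.1 * P.1) * ((P⁻¹ : GL _ F).1 * Y.1 * P.1)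
          = star' hF P.1 * P.1 * star' hF P.1 * (star' hF Y.1 *
              (star' hF (P⁻¹ : GL _ F).1 * (star' hF P.1 * P.1) * (P⁻¹ : GL _ F).1) * Y.1) * P.1 := by
            simp only [Matrix.mul_assoc]
        _ = star' hF P.1 * P.1 * (star' hF P.1 * P.1) := by
            rw [hPi, Matrix.mul_one, hYu, Matrix.mul_one]; simp only [Matrix.mul_assoc]
        _ = 1 := by rw [hJv, hJJ]
    · rw [map_mul, map_mul, map_inv, inv_mul_cancel_comm, hYd]
    · show (P * (P⁻¹ * Y * P) * P⁻¹).1 = y.1.1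
      rw [show P * (P⁻¹ * Y * P) * P⁻¹ = Y by group]
      rfl
  have hπ : Function.Surjective π := (QuotientGroup.mk'_surjective _).comp hφ
  exact isPronormal_of_comap π hπ H (isPronormal_GJ hF hq _ (odd_index_comap π hπ H hH))

theorem isPronormal_PSU {w : ℕ} (hw : 2 ≤ w) (H : Subgroup (Cfsg.PSU (2 ^ w) F q))
    (hH : Odd H.index) : Cfsg.IsPronormal H := by
  obtain ⟨k, rfl⟩ : ∃ k, w = k + 1 := ⟨w - 1, by omega⟩
  rcases Nat.mod_two_eq_zero_or_one q with h | h
  · have hall : ∀ n, n = 2 ^ k + 2 ^ k → ∀ H : Subgroup (Cfsg.PSU n F q), Odd H.index →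
        Cfsg.IsPronormal H := by
      rintro n rfl H hH
      exact isPronormal_PSU_even hF (Nat.dvd_of_mod_eq_zero h) _ H hH
    exact hall _ (by rw [pow_succ]; ring) H hH
  · exact isPronormal_PSU_odd hF h (k := k) (by omega) rfl H hH

end Cfsg.Agent.Lib.SUOddIndex52
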