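import Cfsg.Agent.Lib.SLOddIndex.Blocks
import Cfsg.Agent.Lib.Unitary.Order
import Mathlib

/-!
Sylow 2-subgroups of `GU (2 m)`, `q` odd, from those of `GU m`; the relative version of the
normaliser argument of `Lib.SLOddIndex.Blocks`.
-/

set_option autoImplicit false
set_option linter.unusedSectionVars false

namespace Cfsg.Agent.Lib.SUOddIndex52

open Matrix Cfsg.Agent.Lib.SLOddIndex

variable {F : Type*} [Field F] {κ : Type*} [Fintype κ] [DecidableEq κ]

/-- An element of odd order normalising a large part of `W ≀ 2` is a scalar. -/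
theorem scal_of_normalizes_rel [Fintype F] (h2 : (2 : F) ≠ 0) [Nonempty κ] {W : Subgroup (GL κ F)}
    (hWP : IsPGroup 2 W) (Γ : Subgroup (GL κ F)) (Γ' : Subgroup (GL (κ ⊕ κ) F))
    (hemb : ∀ A D : GL κ F, emb (A, D) ∈ Γ' → A ∈ Γ ∧ D ∈ Γ)
    (hN : ∀ a ∈ Γ, (∀ w ∈ W, a * w * a⁻¹ ∈ W) →
      (∃ r : ℕ, r % 2 = 1 ∧ a ^ r = 1) → IsScal a)
    (hC : ∀ x : GL κ F, (∀ w ∈ W, Matrix.GeneralLinearGroup.det w = 1 →
      x * w = w * x) → IsScal x)
    (hns : ∃ w ∈ W, Matrix.GeneralLinearGroup.det w = 1 ∧ ¬ IsScal w)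
    {S : Subgroup (GL (κ ⊕ κ) F)} (hS : S ≤ W1 W)
    (hi : ∀ w ∈ W, Matrix.GeneralLinearGroup.det w = 1 → emb (w, 1) ∈ S)
    (hii : ∀ w ∈ W, emb (w, w⁻¹) ∈ S)
    (hiii : emb ((-1 : GL κ F), 1) ∈ S) (hiv : sw ∈ S)
    {a : GL (κ ⊕ κ) F} (haΓ : a ∈ Γ') (ha : ∀ x ∈ S, a * x * a⁻¹ ∈ S) {r : ℕ} (hr : r % 2 = 1) (har : a ^ r = 1) :
    IsScal a := by
  haveI : Fact (Nat.Prime 2) := ⟨Nat.prime_two⟩
  set W' : Subgroup (GL κ F) := W with hW'
  have hWp : ∀ w ∈ W', ∃ k, w ^ 2 ^ k = 1 := by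
    intro w hw
    obtain ⟨k, hk⟩ := hWP ⟨w, hw⟩
    exact ⟨k, congrArg Subtype.val hk⟩
  have hai : ∀ x ∈ S, a⁻¹ * x * a ∈ S := by
    intro x hx
    have hmap : S.map (MulAut.conj a).toMonoidHom = S :=
      Subgroup.eq_of_le_of_card_ge (by rintro _ ⟨w, hw, rfl⟩; exact ha w hw)
        (by rw [Subgroup.card_map_of_injective (MulAut.conj a).injective])
    rw [← hmap] at hx
    obtain ⟨w, hw, rfl⟩ := hx
    simpa [mul_assoc] using hw
  set u : GL (κ ⊕ κ) F := emb ((-1 : GL κ F), 1) with hu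
  have hm1 : ∀ w : GL κ F, (-1 : GL κ F) * w = w * (-1) := fun w => by simp
  -- `u` is central modulo scalars
  have hucent : ∀ x ∈ S, IsScal (x * u * x⁻¹ * u⁻¹) := by
    intro x hx
    obtain ⟨b, -, c, -, rfl | rfl⟩ := hS hx
    · have : emb (b, c) * u = u * emb (b, c) := by
        rw [hu, ← map_mul, ← map_mul]; congr 1; ext1 <;> simp
      rw [this, mul_inv_cancel_right, mul_inv_cancel]
      exact isScal_one
    · have : emb (b, c) * sw * u * (emb (b, c) * sw)⁻¹ = emb (1, (-1 : GL κ F)) := by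
        rw [_root_.mul_inv_rev, sw_inv, hu, mul_assoc (emb (b, c)) sw, sw_emb, ← mul_assoc (emb (b, c)),
          mul_assoc _ sw, ← mul_assoc sw sw, sw_mul_self, one_mul, ← map_mul, ← map_inv, ← map_mul]
        congr 1
        ext1 <;> simp
      rw [this, hu, ← map_inv, ← map_mul]
      refine ⟨-1, ?_⟩
      rw [emb_val]
      ext (i | i) (j | j) <;> simp [Matrix.scalar_apply, Matrix.diagonal, Matrix.one_apply] <;>
        split_ifs <;> simp
  set v := a * u * a⁻¹ with hv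
  have hvS : v ∈ S := ha u hiii
  have hvcent : ∀ x ∈ S, IsScal (x * v * x⁻¹ * v⁻¹) := by
    intro x hx
    have h := hucent _ (hai x hx)
    have e : x * v * x⁻¹ * v⁻¹ = a * ((a⁻¹ * x * a) * u * (a⁻¹ * x * a)⁻¹ * u⁻¹) * a⁻¹ := by
      rw [hv]; group
    rw [e, ← h.commute a, mul_inv_cancel_right]
    exact h
  have hvns : ¬ IsScal v := by
    intro hs
    have : u = v := by
      have e := hs.commute a
      rw [hv, mul_assoc (a * u), inv_mul_cancel, mul_one] at e
      have e2 : a * u = a * (a * u * a⁻¹) := e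
      exact (mul_left_cancel e2).trans hv.symm
    rw [← this] at hs
    obtain ⟨i⟩ := ‹Nonempty κ›
    obtain ⟨c, hc⟩ := hs
    rw [hu, emb_val] at hc
    have h11 := congrFun (congrFun hc (Sum.inl i)) (Sum.inl i)
    have h22 := congrFun (congrFun hc (Sum.inr i)) (Sum.inr i)
    simp [Matrix.scalar_apply] at h11 h22
    exact h2 (by linear_combination h22 - h11)
  -- `v` is `± u` up to a scalar
  obtain ⟨b, hb, c, hc, hbc⟩ := hS hvS
  obtain ⟨w, hw, hwd, hwns⟩ := hns
  have hiw : ∀ w ∈ W', Matrix.GeneralLinearGroup.det w = 1 → emb (1, w) ∈ S := by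
    intro w hw hd
    have := S.mul_mem (S.mul_mem hiv (hi w hw hd)) hiv
    rwa [sw_emb, mul_assoc, sw_mul_self, mul_one] at this
  rcases hbc with hbc | hbc
  swap
  · exfalso
    obtain ⟨l, hl⟩ := hvcent _ (hi w hw hwd)
    rw [hbc, _root_.mul_inv_rev, sw_inv, ← map_inv, ← map_inv, Prod.inv_mk, Prod.inv_mk] at hl
    have e : emb (w, 1) * (emb (b, c) * sw) * emb (w⁻¹, 1⁻¹) * (sw * emb (b⁻¹, c⁻¹)) =
        emb (w, c * w⁻¹ * c⁻¹) := by
      rw [mul_assoc _ (emb (b, c) * sw), mul_assoc (emb (b, c)), sw_emb, ← mul_assoc (emb (b, c)),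
        mul_assoc _ _ (sw * emb (b⁻¹, c⁻¹)), mul_assoc _ sw, ← mul_assoc sw sw, sw_mul_self, one_mul,
        ← map_mul, ← map_mul, ← map_mul]
      congr 1
      ext1 <;> simp [mul_assoc]
    rw [e, emb_val] at hl
    refine hwns ⟨l, ?_⟩
    have := congrArg Matrix.toBlocks₁₁ hl
    rw [Matrix.toBlocks_fromBlocks₁₁] at this
    rw [this]
    ext i j
    simp [Matrix.toBlocks₁₁, Matrix.scalar_apply, Matrix.diagonal]
  have hcomm : ∀ z : GL κ F, (∀ w ∈ W', Matrix.GeneralLinearGroup.det w = 1 →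
      IsScal (emb (w * z * w⁻¹ * z⁻¹, 1))) → IsScal z := by
    intro z hz
    refine hC z fun w hw hd => ?_
    obtain ⟨l, hl⟩ := hz w hw hd
    rw [emb_val] at hl
    have h1 := congrArg Matrix.toBlocks₁₁ hl
    have h4 := congrArg Matrix.toBlocks₂₂ hl
    rw [Matrix.toBlocks_fromBlocks₁₁] at h1
    rw [Matrix.toBlocks_fromBlocks₂₂] at h4
    have : w * z * w⁻¹ * z⁻¹ = 1 := by
      apply Units.ext
      rw [h1]
      ext i j
      have := congrFun (congrFun h4 i) j
      simp [Matrix.toBlocks₁₁, Matrix.toBlocks₂₂, Matrix.scalar_apply, Matrix.diagonal] at this ⊢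
      exact this.symm
    rw [mul_inv_eq_one, mul_inv_eq_iff_eq_mul] at this
    exact this.symm
  have hbs : IsScal b := hcomm b fun w hw hd => by
    have h := hvcent _ (hi w hw hd)
    rw [hbc, ← map_inv, ← map_inv, ← map_mul, ← map_mul, ← map_mul] at h
    simpa using h
  have hcs : IsScal c := by
    refine hcomm c fun w hw hd => ?_
    obtain ⟨l, hl⟩ := hvcent _ (hiw w hw hd)
    rw [hbc, ← map_inv, ← map_inv, ← map_mul, ← map_mul, ← map_mul] at hl
    refine ⟨l, ?_⟩
    rw [emb_val] at hl ⊢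
    have h1 := congrArg Matrix.toBlocks₁₁ hl
    have h4 := congrArg Matrix.toBlocks₂₂ hl
    ext (i | i) (j | j)
    · have := congrFun (congrFun h4 i) j
      simpa [Matrix.toBlocks₂₂, Matrix.scalar_apply, Matrix.diagonal] using this
    · simp [Matrix.scalar_apply, Matrix.diagonal]
    · simp [Matrix.scalar_apply, Matrix.diagonal]
    · have := congrFun (congrFun h1 i) j
      simpa [Matrix.toBlocks₁₁, Matrix.scalar_apply, Matrix.diagonal] using this
  obtain ⟨β, hβ⟩ := hbs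
  obtain ⟨γ, hγ⟩ := hcs
  obtain ⟨i0⟩ := ‹Nonempty κ›
  have hβ0 : β ≠ 0 := fun z => by
    have hh := congrArg (fun M : Matrix κ κ F => M i0 i0) (show (b : Matrix κ κ F) * (b⁻¹ : GL κ F) = 1 from
      congrArg Units.val (mul_inv_cancel b))
    rw [hβ, z] at hh
    simp at hh
  have hsq : γ ^ 2 = β ^ 2 := by
    obtain ⟨l, hl⟩ := hvcent sw hiv
    rw [sw_inv, hbc, sw_emb, mul_assoc (emb (c, b)), sw_mul_self, mul_one, ← map_inv, ← map_mul] at hl
    have hgen : (emb ((c, b) * (b, c)⁻¹) * emb (b, c) : GL (κ ⊕ κ) F) = emb (c, b) := by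
      rw [← map_mul, inv_mul_cancel_right]
    have hh := congrArg Units.val hgen
    rw [Units.val_mul, hl, emb_val, emb_val, hβ, hγ] at hh
    have h11 := congrFun (congrFun hh (Sum.inl i0)) (Sum.inl i0)
    have h22 := congrFun (congrFun hh (Sum.inr i0)) (Sum.inr i0)
    simp [Matrix.scalar_apply] at h11 h22
    linear_combination β * h22 + (-γ) * h11
  have hγβ : γ = -β := by
    rcases sq_eq_sq_iff_eq_or_eq_neg.1 hsq with h | h
    · exfalso
      refine hvns ⟨β, ?_⟩
      rw [hbc, emb_val, hβ, hγ, h]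
      ext (i | i) (j | j) <;> simp [Matrix.scalar_apply, Matrix.diagonal]
    · exact h
  have hz : IsScal (v * u⁻¹) := by
    refine ⟨-β, ?_⟩
    rw [hbc, hu, ← map_inv, ← map_mul, emb_val]
    ext (i | i) (j | j) <;>
      simp [hβ, hγ, hγβ, Matrix.scalar_apply, Matrix.diagonal, Matrix.mul_apply, Matrix.one_apply] <;>
      split_ifs <;> simp
  set z := v * u⁻¹ with hzdef
  have hpow : ∀ n : ℕ, a ^ n * u * (a ^ n)⁻¹ = z ^ n * u := by
    intro n
    induction n with
    | zero => simp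
    | succ n ih =>
      calc a ^ (n + 1) * u * (a ^ (n + 1))⁻¹ = a * (a ^ n * u * (a ^ n)⁻¹) * a⁻¹ := by rw [pow_succ']; group
        _ = a * z ^ n * (u * a⁻¹) := by rw [ih]; group
        _ = z ^ n * a * (u * a⁻¹) := by rw [((show Commute z a from hz.commute a).pow_left n).eq]
        _ = z ^ n * v := by rw [hv]; group
        _ = z ^ n * (z * u) := by rw [hzdef]; group
        _ = z ^ (n + 1) * u := by rw [pow_succ]; group
  have hzr : z ^ r = 1 := by
    have := hpow r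
    rw [har, one_mul, inv_one, mul_one] at this
    exact mul_eq_right.1 this.symm
  have hu2 : u * u = 1 := by
    rw [hu, ← map_mul]
    have : ((-1 : GL κ F), (1 : GL κ F)) * (-1, 1) = 1 := by ext1 <;> simp
    rw [this, map_one]
  have hz2 : z ^ 2 ^ 1 = 1 := by
    have e : z * u = v := by rw [hzdef, inv_mul_cancel_right]
    have e2 : v * v = 1 := by rw [hv]; simp [mul_assoc, hu2]; simp [← mul_assoc, hu2]
    rw [← e, mul_assoc z u, ← mul_assoc u z, ← hz.commute u, mul_assoc z u u, hu2, mul_one] at e2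
    rw [pow_one, pow_two]; exact e2
  have hz1 : z = 1 := odd_two_power hr hzr hz2
  have hau : a * u = u * a := by
    rw [hzdef, hv, mul_inv_eq_one, mul_inv_eq_iff_eq_mul] at hz1
    exact hz1
  obtain ⟨A, D, rfl⟩ := block_of_commute h2 hau
  rw [← map_pow, Prod.pow_mk, ← map_one (emb : GL κ F × GL κ F →* GL (κ ⊕ κ) F)] at har
  obtain ⟨hAr, hDr⟩ := Prod.ext_iff.1 (emb_injective har)
  simp only [Prod.fst_one, Prod.snd_one] at hAr hDr
  have hmemW : ∀ p q : GL κ F, emb (p, q) ∈ S → p ∈ W' ∧ q ∈ W' := by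
    intro p q h
    obtain ⟨b', hb', c', hc', e | e⟩ := hS h
    · obtain ⟨rfl, rfl⟩ := Prod.ext_iff.1 (emb_injective e)
      exact ⟨hb', hc'⟩
    · exact absurd e (emb_ne_sw _ _ _ _)
  have hAD : ∀ w ∈ W', A * w * A⁻¹ ∈ W' ∧ D * w * D⁻¹ ∈ W' := by
    intro w hw
    refine ⟨?_, ?_⟩
    · have := ha _ (hii w hw)
      rw [← map_inv, ← map_mul, ← map_mul] at this
      exact (hmemW _ _ this).1
    · have := ha _ (hii w⁻¹ (W'.inv_mem hw))
      rw [← map_inv, ← map_mul, ← map_mul] at this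
      simpa using (hmemW _ _ this).2
  have hAs := hN A (hemb A D haΓ).1 (fun w hw => (hAD w hw).1) ⟨r, hr, hAr⟩
  have hDs := hN D (hemb A D haΓ).2 (fun w hw => (hAD w hw).2) ⟨r, hr, hDr⟩
  have hquo : A * D⁻¹ = 1 := by
    have := S.mul_mem (ha sw hiv) hiv
    rw [← map_inv, Prod.inv_mk, mul_assoc (emb (A, D)), sw_emb, ← mul_assoc, mul_assoc _ sw sw,
      sw_mul_self, mul_one, ← map_mul, Prod.mk_mul_mk] at this
    obtain ⟨k, hk⟩ := hWp _ (hmemW _ _ this).1
    refine odd_two_power hr ?_ hk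
    rw [Commute.mul_pow (show Commute A D⁻¹ from hAs.commute _), hAr, inv_pow, hDr]
    simp
  obtain rfl : A = D := by rwa [mul_inv_eq_one] at hquo
  obtain ⟨α, hα⟩ := hAs
  refine ⟨α, ?_⟩
  rw [emb_val, hα]
  ext (i | i) (j | j) <;> simp [Matrix.scalar_apply, Matrix.diagonal]


section Gam

variable [Fintype F] {q : ℕ} (hF : Fintype.card F = q ^ 2)

/-- The conjugate transpose. -/
def star' {ι : Type*} (M : Matrix ι ι F) : Matrix ι ι F := (M.map (Unitary.conj hF))ᵀ

variable {ι : Type*} [Fintype ι] [DecidableEq ι]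

theorem star'_mul (A B : Matrix ι ι F) : star' hF (A * B) = star' hF B * star' hF A := by
  simp only [star', Matrix.map_mul, Matrix.transpose_mul]

theorem star'_one : star' hF (1 : Matrix ι ι F) = 1 := by
  rw [star', Matrix.map_one _ (map_zero _) (map_one _), Matrix.transpose_one]

theorem star'_star' (A : Matrix ι ι F) : star' hF (star' hF A) = A := by
  ext i j
  show Unitary.conj hF (Unitary.conj hF (A i j)) = A i j
  rw [Unitary.conj_apply, Unitary.conj_apply, Unitary.pow_q_q hF]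

/-- The unitary group of the standard form on `ι`. -/
def Gam (ι : Type*) [Fintype ι] [DecidableEq ι] : Subgroup (GL ι F) where
  carrier := {x | star' hF x.1 * x.1 = 1}
  one_mem' := by
    show star' hF (1 : GL ι F).1 * (1 : GL ι F).1 = 1
    rw [Units.val_one, star'_one, mul_one]
  mul_mem' := by
    intro a b ha hb
    show star' hF (a * b).1 * (a * b).1 = 1
    rw [Units.val_mul, star'_mul, Matrix.mul_assoc, ← Matrix.mul_assoc (star' hF a.1), ha,
      Matrix.one_mul, hb]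
  inv_mem' := by
    intro a ha
    show star' hF (a⁻¹ : GL ι F).1 * (a⁻¹ : GL ι F).1 = 1
    have e : star' hF (a⁻¹ : GL ι F).1 = a.1 := by
      have h1 : (a⁻¹ : GL ι F).1 = star' hF a.1 := by
        calc (a⁻¹ : GL ι F).1 = (star' hF a.1 * a.1) * (a⁻¹ : GL ι F).1 := by
              rw [show star' hF a.1 * a.1 = 1 from ha, Matrix.one_mul]
          _ = star' hF a.1 := by
              rw [Matrix.mul_assoc, ← Units.val_mul, mul_inv_cancel, Units.val_one, Matrix.mul_one]
      rw [h1, star'_star']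
    rw [e, ← Units.val_mul, mul_inv_cancel, Units.val_one]

theorem mem_Gam {x : GL ι F} : x ∈ Gam hF ι ↔ star' hF x.1 * x.1 = 1 := Iff.rfl

theorem emb_mem_Gam_iff (A D : GL κ F) :
    emb (A, D) ∈ Gam hF (κ ⊕ κ) ↔ A ∈ Gam hF κ ∧ D ∈ Gam hF κ := by
  simp only [mem_Gam, emb_val, star', Matrix.fromBlocks_map, Matrix.map_zero _ (map_zero _),
    Matrix.fromBlocks_transpose, Matrix.transpose_zero, Matrix.fromBlocks_multiply, Matrix.mul_zero,
    Matrix.zero_mul, add_zero, zero_add]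
  rw [← Matrix.fromBlocks_one, Matrix.fromBlocks_inj]
  simp

theorem sw_mem_Gam : (sw : GL (κ ⊕ κ) F) ∈ Gam hF (κ ⊕ κ) := by
  show star' hF (Matrix.fromBlocks 0 1 1 0 : Matrix (κ ⊕ κ) (κ ⊕ κ) F) * Matrix.fromBlocks 0 1 1 0 = 1
  simp only [star', Matrix.fromBlocks_map, Matrix.map_zero _ (map_zero _),
    Matrix.map_one _ (map_zero _) (map_one _), Matrix.fromBlocks_transpose, Matrix.transpose_zero,
    Matrix.transpose_one, Matrix.fromBlocks_multiply]
  simp

theorem W1_le_Gam {W : Subgroup (GL κ F)} (hW : W ≤ Gam hF κ) : W1 W ≤ Gam hF (κ ⊕ κ) := by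
  rintro _ ⟨b, hb, c, hc, rfl | rfl⟩
  · exact (emb_mem_Gam_iff hF b c).2 ⟨hW hb, hW hc⟩
  · exact mul_mem ((emb_mem_Gam_iff hF b c).2 ⟨hW hb, hW hc⟩) (sw_mem_Gam hF)

theorem isPGroup_W1 [Nonempty κ] {W : Subgroup (GL κ F)} (hW : IsPGroup 2 W) :
    IsPGroup 2 (W1 W) := by
  haveI : Fact (Nat.Prime 2) := ⟨Nat.prime_two⟩
  obtain ⟨k, hk⟩ := IsPGroup.iff_card.1 hW
  refine IsPGroup.of_card (n := 1 + (k + k)) ?_
  rw [card_W1, hk, pow_add, pow_add, pow_one]

theorem preserving_iff_star' {n : ℕ} (M : Matrix (Fin n) (Fin n) F) :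
    (∀ u v, hermForm n F q (M *ᵥ u) (M *ᵥ v) = hermForm n F q u v) ↔ star' hF M * M = 1 := by
  constructor
  · intro h
    ext i j
    have h1 := h (Pi.single j 1) (Pi.single i 1)
    rw [Unitary.herm_std hF] at h1
    simpa [star', Matrix.mul_apply, hermForm, Matrix.one_apply, eq_comm, mul_comm] using h1
  · intro h u v
    have h2 : Mᵀ * M.map (Unitary.conj hF) = 1 := by
      have := congrArg Matrix.transpose h
      rwa [star', Matrix.transpose_mul, Matrix.transpose_transpose, Matrix.transpose_one] at this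
    have hd : ∀ x y : Fin n → F, hermForm n F q x y = x ⬝ᵥ (⇑(Unitary.conj hF) ∘ y) :=
      fun x y => rfl
    have h3 : ⇑(Unitary.conj hF) ∘ (M *ᵥ v) = M.map (Unitary.conj hF) *ᵥ (⇑(Unitary.conj hF) ∘ v) :=
      funext fun i => RingHom.map_mulVec (Unitary.conj hF) M v i
    rw [hd, hd, h3, ← Matrix.vecMul_transpose, ← Matrix.dotProduct_mulVec, Matrix.mulVec_mulVec,
      h2, Matrix.one_mulVec]

theorem Gam_eq_GU (n : ℕ) : Gam hF (Fin n) = Cfsg.GU n F q :=
  Subgroup.ext fun x => (preserving_iff_star' hF x.1).symm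

theorem card_Gam_reindex {ι' : Type*} [Fintype ι'] [DecidableEq ι'] (e : ι ≃ ι') :
    Nat.card (Gam hF ι) = Nat.card (Gam hF ι') := by
  let φ : GL ι F ≃* GL ι' F := Units.mapEquiv (Matrix.reindexAlgEquiv F F e).toMulEquiv
  refine Nat.card_congr (φ.toEquiv.subtypeEquiv fun x => ?_)
  show star' hF x.1 * x.1 = 1 ↔
    star' hF (Matrix.reindex e e x.1) * Matrix.reindex e e x.1 = 1
  rw [star', star', Matrix.reindex_apply, ← Matrix.submatrix_map, Matrix.transpose_submatrix,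
    Matrix.submatrix_mul_equiv]
  constructor
  · intro h; rw [h, Matrix.submatrix_one_equiv]
  · intro h
    have := congrArg (fun M : Matrix ι' ι' F => M.submatrix e e) h
    simpa [Matrix.submatrix_submatrix] using this

theorem card_Gam (ι : Type*) [Fintype ι] [DecidableEq ι] :
    Nat.card (Gam hF ι) = q ^ (Fintype.card ι * (Fintype.card ι - 1) / 2) *
      ∏ i ∈ Finset.range (Fintype.card ι), (if Even i then q ^ (i + 1) + 1 else q ^ (i + 1) - 1) := by
  rw [card_Gam_reindex hF (Fintype.equivFin ι), Gam_eq_GU, Unitary.card_GU hF]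

end Gam

end Cfsg.Agent.Lib.SUOddIndex52
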